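import Groth.Agent.BlowBC.ProjBdCore
import Groth.Agent.BlowBC.Scheme
import Mathlib

/-!
# The standard charts of a blow-up over an affine open, as opens of the blow-up
-/

set_option autoImplicit false
set_option linter.style.haveILetI false
set_option maxSynthPendingDepth 4
set_option backward.isDefEq.respectTransparency false
universe u

open CategoryTheory AlgebraicGeometry Limits TopologicalSpace

namespace Groth.Agent.BlowCech

open BlowUpExist
open BlowBC (Ch)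

variable {X X' : Scheme.{u}}

/-- pulled-back functions -/
noncomputable abbrev rho (f : X' ⟶ X) {U : X.Opens} (O : X'.Opens) (h : O ≤ f ⁻¹ᵁ U) : Γ(X, U) →+* Γ(X', O) :=
  (f.appLE U O h).hom

theorem rho_res (f : X' ⟶ X) {U : X.Opens} {O O' : X'.Opens} (h : O ≤ f ⁻¹ᵁ U) (h' : O' ≤ f ⁻¹ᵁ U) (hle : O' ≤ O)
    (c : Γ(X, U)) : X'.presheaf.map (homOfLE hle).op (rho f O h c) = rho f O' h' c :=
  ConcreteCategory.congr_hom (Scheme.Hom.appLE_map f h (homOfLE hle).op) c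

/-- the chart data over an affine open -/
structure Charts (f : X' ⟶ X) (U : X.affineOpens) {N : ℕ} (a : Fin N → Γ(X, U.1)) where
  D : Fin N → X'.Opens
  affine : ∀ i, IsAffineOpen (D i)
  le : ∀ i, D i ≤ f ⁻¹ᵁ U.1
  cover : f ⁻¹ᵁ U.1 ≤ ⨆ i, D i
  gen : ∀ i, (Ideal.span (Set.range a)).map (rho f (D i) (le i)) = Ideal.span {rho f (D i) (le i) (a i)}
  nzd : ∀ i (O : X'.Opens) (h : O ≤ f ⁻¹ᵁ U.1),
    (Ideal.span (Set.range a)).map (rho f O h) = Ideal.span {rho f O h (a i)} →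
      rho f O h (a i) ∈ nonZeroDivisors Γ(X', O)
  le_of_gen : ∀ i (O : X'.Opens) (h : O ≤ f ⁻¹ᵁ U.1),
    (Ideal.span (Set.range a)).map (rho f O h) = Ideal.span {rho f O h (a i)} → O ≤ D i
  form : ∀ i (v : Γ(X', D i)), ∃ d : ℕ, ∃ c ∈ Ideal.span (Set.range a) ^ d,
    v * rho f (D i) (le i) (a i) ^ d = rho f (D i) (le i) c
  ker : ∀ i (c : Γ(X, U.1)), rho f (D i) (le i) c = 0 → ∃ r : ℕ, a i ^ r * c = 0

theorem fromA_eq_zero {A : Type u} [CommRing A] (I : Ideal A) (a : A) (ha : a ∈ I) {x : A}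
    (h : fromA I a ha x = 0) : ∃ r : ℕ, a ^ r * x = 0 := by
  have h1 := congrArg HomogeneousLocalization.val h
  rw [val_fromA, HomogeneousLocalization.val_zero] at h1
  obtain ⟨⟨_, k, rfl⟩, hk⟩ := (IsLocalization.map_eq_zero_iff (Submonoid.powers (tt I a ha)) _ _).1 h1
  refine ⟨k, ?_⟩
  have h2 := congrArg (ev1 I) hk
  rwa [map_mul, map_pow, ev1_tt, ev1_algebraMap, map_zero] at h2

set_option maxHeartbeats 1600000 in
theorem exists_charts (J : X.IdealSheafData) {f : X' ⟶ X} (hb : BlowUp.IsBlowUp f J) (U : X.affineOpens) {N : ℕ}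
    (a : Fin N → Γ(X, U.1)) (hI : J.ideal U = Ideal.span (Set.range a)) : Nonempty (Charts f U a) := by
  let A := Γ(X, U.1)
  let I : Ideal A := J.ideal U
  let u : Spec Γ(X, U.1) ⟶ X := U.2.fromSpec
  have hbu := BlowUpLib.isBlowUp_flat u hb
  rw [BlowBC.comap_fromSpec_eq J U] at hbu
  have h0 := isBlowUp_affine I
  obtain ⟨k, hk, -⟩ := h0.2 _ (pullback.fst u f) hbu.1
  obtain ⟨l, hl, -⟩ := hbu.2 _ (structMap I) h0.1
  haveI : IsIso l := ⟨k, (h0.2 _ _ h0.1).unique (by rw [Category.assoc, hk, hl]) (Category.id_comp _),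
    (hbu.2 _ _ hbu.1).unique (by rw [Category.assoc, hl, hk]) (Category.id_comp _)⟩
  have hmem : ∀ j, a j ∈ I := fun j => hI.ge (Ideal.subset_span ⟨j, rfl⟩)
  let c : ∀ i : Fin N, Spec (CommRingCat.of (Ch I (a i) (hmem i))) ⟶ X' := fun i =>
    chart I (a i) (hmem i) ≫ l ≫ pullback.snd u f
  haveI hci : ∀ i, IsOpenImmersion (c i) := fun i => inferInstance
  let ψ : ∀ i, A →+* Ch I (a i) (hmem i) := fun i => fromA I (a i) (hmem i)
  have hcf : ∀ i, c i ≫ f = Spec.map (CommRingCat.ofHom (ψ i)) ≫ U.2.fromSpec := fun i => by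
    simp only [c, Category.assoc, ← pullback.condition]
    rw [reassoc_of% hl, ← Category.assoc, chart_structMap]
  let D : Fin N → X'.Opens := fun i => (c i).opensRange
  have hle : ∀ i, D i ≤ f ⁻¹ᵁ U.1 := by
    rintro i _ ⟨p, rfl⟩
    show f (c i p) ∈ U.1
    rw [← Scheme.Hom.comp_apply, hcf]
    exact U.2.range_fromSpec.le ⟨_, rfl⟩
  have hcD : ∀ i, (⊤ : (Spec (CommRingCat.of (Ch I (a i) (hmem i)))).Opens) ≤ c i ⁻¹ᵁ D i := fun i p _ => ⟨p, rfl⟩
  let θ : ∀ i, Γ(X', D i) →+* Ch I (a i) (hmem i) := fun i =>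
    ((c i).appLE (D i) ⊤ (hcD i) ≫ (Scheme.ΓSpecIso (CommRingCat.of (Ch I (a i) (hmem i)))).hom).hom
  have hθ : ∀ i, Function.Bijective (θ i) := fun i => by
    haveI : IsIso ((c i).appLE (D i) ⊤ (hcD i)) := by
      have e : ∀ (W : X'.Opens) (_ : W = (c i) ''ᵁ ⊤) (h : ⊤ ≤ c i ⁻¹ᵁ W), IsIso ((c i).appLE W ⊤ h) := by
        rintro W rfl h
        rw [← Scheme.Hom.appIso_hom']
        infer_instance
      exact e _ (c i).image_top_eq_opensRange.symm _
    exact ConcreteCategory.bijective_of_isIso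
      ((c i).appLE (D i) ⊤ (hcD i) ≫ (Scheme.ΓSpecIso (CommRingCat.of (Ch I (a i) (hmem i)))).hom)
  have hθψ : ∀ i r, θ i (rho f (D i) (hle i) r) = ψ i r := fun i r => by
    have h1 := BlowBC.appLE_spec_fromSpec U.2 (ψ i) (hcf i) ⊤ (by
      rw [Scheme.Hom.comp_preimage]; exact (hcD i).trans ((c i).preimage_mono (hle i))) r
    show (Scheme.ΓSpecIso _).hom ((c i).appLE (D i) ⊤ (hcD i) (f.appLE U.1 (D i) (hle i) r)) = _
    rw [← CommRingCat.comp_apply (f.appLE U.1 (D i) (hle i)), Scheme.Hom.appLE_comp_appLE, h1]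
    simp
    rfl
  have hnzd : ∀ i (O : X'.Opens) (h : O ≤ f ⁻¹ᵁ U.1),
      (Ideal.span (Set.range a)).map (rho f O h) = Ideal.span {rho f O h (a i)} →
        rho f O h (a i) ∈ nonZeroDivisors Γ(X', O) := fun i O h hg =>
    BlowBC.nzd_of_cartier J hb.1 h (by rw [hI]; exact hg)
  refine ⟨⟨D, fun i => isAffineOpen_opensRange (c i), hle, ?_, fun i => ?_, hnzd, ?_, ?_, ?_⟩⟩
  · intro z hz
    obtain ⟨p, hp⟩ : z ∈ Set.range (pullback.snd u f) := by
      rw [Scheme.Pullback.range_snd]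
      show f z ∈ Set.range u
      rw [IsAffineOpen.range_fromSpec]
      exact hz
    obtain ⟨p', hp'⟩ := l.surjective p
    let 𝒰 := Proj.affineOpenCoverOfIrrelevantLESpan (Rees.deg (reesAlgebra I))
      (fun j : Fin N => tt I (a j) (hmem j)) (m := fun _ => 1)
      (fun j => tt_mem I _ _) (fun _ => one_pos) (KoszBlow.irrelevant_le_gens a hI)
    obtain ⟨q, hq⟩ : p' ∈ Set.range (chart I (a (𝒰.idx p')) (hmem _)) := 𝒰.covers p'
    refine Opens.mem_iSup.2 ⟨𝒰.idx p', q, ?_⟩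
    show (chart I (a (𝒰.idx p')) (hmem _) ≫ l ≫ pullback.snd u f) q = z
    rw [Scheme.Hom.comp_apply, Scheme.Hom.comp_apply, hq, hp', hp]
  · refine le_antisymm ?_ ((Ideal.span_singleton_le_iff_mem _).2
      (Ideal.mem_map_of_mem _ (Ideal.subset_span ⟨i, rfl⟩)))
    rw [Ideal.map_span, Ideal.span_le, ← Set.range_comp]
    rintro _ ⟨j, rfl⟩
    obtain ⟨t, ht⟩ := Ideal.mem_span_singleton'.1 (fromA_mem_span I (a i) (hmem i) (hmem j))
    obtain ⟨t', rfl⟩ := (hθ i).2 t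
    exact Ideal.mem_span_singleton'.2 ⟨t', (hθ i).1 (by rw [map_mul, hθψ, Function.comp_apply, hθψ]; exact ht)⟩
  · intro i O h hg
    have hI' : I.map (rho f O h) = Ideal.span {rho f O h (a i)} := by
      show (J.ideal U).map (rho f O h) = _
      rw [hI]; exact hg
    obtain ⟨χ, hχ⟩ := exists_chartHom I (a i) (hmem i) (rho f O h) (hnzd i O h hg) hI'
    let o : O.toScheme ⟶ Spec (CommRingCat.of (Ch I (a i) (hmem i))) := O.toSpecΓ ≫ Spec.map (CommRingCat.ofHom χ)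
    have hoc : o ≫ c i = O.ι := by
      have hcart : BlowUp.IsEffCartierIdeal (J.comap (O.ι ≫ f)) := by
        rw [Scheme.IdealSheafData.comap_comp]
        exact BlowUpLib.cartier_comap_flat hb.1 _
      refine (hb.2 _ (O.ι ≫ f) hcart).unique ?_ rfl
      rw [Category.assoc, hcf]
      simp only [o, ψ, Category.assoc]
      rw [← Spec.map_comp_assoc,
        show CommRingCat.ofHom (fromA I (a i) (hmem i)) ≫ CommRingCat.ofHom χ = f.appLE U.1 O h from
          CommRingCat.hom_ext hχ,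
        Scheme.Opens.toSpecΓ_SpecMap_appLE_assoc, ← U.2.isoSpec_hom, U.2.isoSpec_hom_fromSpec,
        Scheme.Hom.resLE_comp_ι]
    intro z hz
    refine ⟨o ⟨z, hz⟩, ?_⟩
    rw [← Scheme.Hom.comp_apply, hoc]
    rfl
  · intro i v
    obtain ⟨d, x, hx, e⟩ := HomogeneousLocalization.Away.mk_surjective (Rees.deg (reesAlgebra I))
      (tt_mem I (a i) (hmem i)) (θ i v)
    have hx' : x ∈ Rees.deg (reesAlgebra I) d := by simpa using hx
    obtain ⟨c₀, hc₀, rfl⟩ : ∃ c₀ hc₀, x = mono I d c₀ hc₀ := ⟨_, _, eq_mono_of_mem I hx'⟩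
    have e := (congrArg (· * fromA I (a i) (hmem i) (a i ^ d)) e.symm).trans
      ((val_mul_pow I (a i) (hmem i) d _ hx).trans (by rw [ev1_mono]))
    refine ⟨d, c₀, hI ▸ hc₀, (hθ i).1 ?_⟩
    rw [map_mul, map_pow, hθψ, hθψ, ← map_pow]
    exact e
  · intro i r hr
    refine fromA_eq_zero I (a i) (hmem i) ?_
    have := hθψ i r
    rw [hr, map_zero] at this
    exact this.symm

end Groth.Agent.BlowCech
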