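import Groth.Agent.BlowCech.Vanish
import Groth.Agent.BlowBC.ProjBdConormal
import Groth.Agent.BlowUpExist.Proper
import Groth.Agent.CohFinite.RPushVanish
import Groth.Agent.SiteCoh.ClosedPush
import Groth.Agent.QDescent.Adjoint
import Groth.Agent.PBundle.FrameTools
import Groth.Agent.QC.IdealMod
import Groth.Prelude.Def_RegImm
import Groth.Prelude.Def_ClSub2
import Mathlib

/-!
# Higher direct images of the powers of the exceptional ideal
-/

set_option autoImplicit false
set_option linter.style.haveILetI false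
set_option backward.isDefEq.respectTransparency false
set_option backward.isDefEq.respectTransparency.types false
universe u

open CategoryTheory CategoryTheory.Limits AlgebraicGeometry TopologicalSpace Opposite

noncomputable section

namespace Groth.Agent.BlowCech

open Groth.Agent.SiteCoh
open Wiebe (Acyclic)

variable {X X' : Scheme.{u}} {f : X' ⟶ X}

/-- locally, the ideal is generated by a nonempty sequence with acyclic Koszul complex -/
def LocData (J : X.IdealSheafData) : Prop :=
  ∀ x : X, ∃ (U : X.affineOpens) (N : ℕ) (a : Fin N → Γ(X, U.1)),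
    x ∈ U.1 ∧ 0 < N ∧ Acyclic a ∧ J.ideal U = Ideal.span (Set.range a)

theorem locData_of_koszul {Y : Scheme.{u}} (i : Y ⟶ X) [IsClosedImmersion i]
    (hi : RegImm.IsRegularImmersion .koszul i) (hdense : Dense (Set.range i)ᶜ) : LocData i.ker := by
  have hsupp : (i.ker.support : Set X) = Set.range i := by
    rw [Scheme.Hom.support_ker]
    exact i.isClosedEmbedding.isClosed_range.closure_eq
  intro x
  by_cases hx : x ∈ i.ker.support
  · obtain ⟨z, rfl⟩ : x ∈ Set.range i := hsupp ▸ hx
    obtain ⟨U, hz, -, rs, hrs, hker⟩ := hi.2 z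
    have hideal : i.ker.ideal U = Ideal.span (Set.range rs.get) := by
      refine (Scheme.Hom.ker_apply i U).trans (hker.trans ?_)
      rw [Set.range_list_get]
    refine ⟨U, rs.length, rs.get, hz, ?_, ?_, hideal⟩
    · by_contra h0
      have hnil : rs = [] := List.eq_nil_of_length_eq_zero (by omega)
      subst hnil
      have hbot : i.ker.ideal U = ⊥ := by simpa using hideal
      have hsub : (U.1 : Set X) ⊆ Set.range i := by
        rw [← hsupp]
        intro y hy
        have h := Scheme.IdealSheafData.mem_support_iff_of_mem (I := i.ker) (U := U) hy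
        refine h.2 ?_
        rw [hbot, Scheme.mem_zeroLocus_iff]
        intro c hc
        rw [show c = 0 from hc, Scheme.basicOpen_zero]
        simp
      obtain ⟨y, hy, hy'⟩ := hdense.exists_mem_open U.1.2 ⟨_, hz⟩
      exact hy (hsub hy')
    · have h : LCI.IsKoszulRegularSeq Γ(X, U.1) (List.ofFn rs.get) := by rw [List.ofFn_get]; exact hrs
      exact KoszulLib.isKoszulRegularSeq_iff_acyclic.1 h
  · obtain ⟨V, hV, hxV, hle⟩ := exists_isAffineOpen_mem_and_subset (show x ∈ i.ker.support.compl from hx)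
    have htop : i.ker.ideal ⟨V, hV⟩ = ⊤ := BlowBC.ideal_eq_top_of_notMem _ _ fun z hz => hle hz
    exact ⟨⟨V, hV⟩, 1, fun _ => 1, hxV, Nat.one_pos, KoszulLib.acyclic_of_span_eq_top (by simp), htop.trans (by simp)⟩

theorem qc_qs (J : X.IdealSheafData) (hJ : LocData J) (hb : BlowUp.IsBlowUp f J) :
    QuasiCompact f ∧ QuasiSeparated f := by
  have := BlowUpExist.isProper_of_isBlowUp hb fun x => by
    obtain ⟨U, N, a, hxU, -, -, hI⟩ := hJ x
    classical
    exact ⟨U, hxU, ⟨Finset.univ.image a, by rw [Finset.coe_image, Finset.coe_univ, Set.image_univ, hI]⟩⟩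
  exact ⟨inferInstance, inferInstance⟩

variable {J : X.IdealSheafData} {U : X.affineOpens} {N : ℕ} {a : Fin N → Γ(X, U.1)} (C : Charts f U a)

theorem ideal_pow_DS (hI : J.ideal U = Ideal.span (Set.range a)) {S : Finset (Fin N)} (hS : S.Nonempty) (n : ℕ) :
    ((BlowUp.exceptional f J) ^ n).ideal ⟨C.DS S, C.affine_DS hS⟩ = C.IS S ^ n := by
  rw [Scheme.IdealSheafData.ideal_pow, Pi.pow_apply, BlowUp.exceptional,
    FpqcDescent.ideal_comap_appLE J f U ⟨C.DS S, C.affine_DS hS⟩ (C.DS_le_U S), hI]

/-- the powers of the exceptional ideal, as twists -/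
def idealTwist (hI : J.ideal U = Ideal.span (Set.range a)) (n : ℕ) :
    C.Twist (res' (𝟭 X'.Opens) (Coh.toAb (ClSub.idealMod ((BlowUp.exceptional f J) ^ n)))) (n : ℤ) 0 where
  Φ S := AddMonoidHom.mk' (fun s => (ClSub.idealModι ((BlowUp.exceptional f J) ^ n)).app (C.DS S) s)
    (fun s t => map_add _ s t)
  inj S _ := QC.app_injective_of_mono (ClSub.idealModι ((BlowUp.exceptional f J) ^ n)) (C.DS S)
  range S hS v := by
    show v ∈ Set.range ((ClSub.idealModι ((BlowUp.exceptional f J) ^ n)).app (C.DS S)) ↔ _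
    rw [QC.mem_range_idealModι_affine _ ⟨C.DS S, C.affine_DS hS⟩, ideal_pow_DS C hI hS n]
    simp
  map S T h _ s := by
    rw [pow_zero, map_one, mul_one]
    exact (QC.app_res (ClSub.idealModι ((BlowUp.exceptional f J) ^ n)) (C.DS_anti h) s).symm

theorem subsingleton_hu_idealPow (hb : BlowUp.IsBlowUp f J) (U : X.affineOpens) {N : ℕ}
    (a : Fin N → Γ(X, U.1)) (hI : J.ideal U = Ideal.span (Set.range a)) (ha : Acyclic a) (hN : 0 < N) (n q : ℕ) :
    Subsingleton (CohSite.HU (Coh.toAb (ClSub.idealMod ((BlowUp.exceptional f J) ^ n))) (q + 1) (f ⁻¹ᵁ U.1)) := by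
  obtain ⟨C⟩ := exists_charts J hb U a hI
  haveI : (ClSub.idealMod ((BlowUp.exceptional f J) ^ n)).IsQuasicoherent := QC.isQCoh_idealMod _
  exact Charts.subsingleton_hu _ (idealTwist C hI n) ha hN (by omega) (by omega) q

theorem directAcyclic_idealPow (hJ : LocData J) (hb : BlowUp.IsBlowUp f J) (n : ℕ) :
    DirectAcyclic (Opens.grothendieckTopology X) (Opens.map f.base)
      (Coh.toAb (ClSub.idealMod ((BlowUp.exceptional f J) ^ n))) := by
  obtain ⟨_, _⟩ := qc_qs J hJ hb
  choose V N a hxV hN ha hI using hJ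
  exact CohFinite.directAcyclic_of_hu_vanish f _ (QC.isQCoh_idealMod _) (fun x => (V x).1) (fun x => (V x).2)
    (fun x => ⟨x, hxV x⟩) fun x q => subsingleton_hu_idealPow hb (V x) (a x) (hI x) (ha x) (hN x) n q

theorem isZero_rpush_idealPow (hJ : LocData J) (hb : BlowUp.IsBlowUp f J) (n q : ℕ) (hq : 1 ≤ q) :
    IsZero ((Coh.RpushAb f q).obj (Coh.toAb (ClSub.idealMod ((BlowUp.exceptional f J) ^ n)))) := by
  obtain ⟨p, rfl⟩ := Nat.exists_eq_add_of_le hq
  rw [add_comm]
  exact isZero_rpush_of_locKilled (K := _) (u := Opens.map f.base) (directAcyclic_idealPow hJ hb n p)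

include C in
/-- functions upstairs over an affine open with such generators -/
theorem app_bijective (ha : Acyclic a) (hN : 0 < N) : Function.Bijective (f.app U.1) := by
  classical
  refine ⟨(injective_iff_map_eq_zero _).2 fun c hc => C.eq_zero_of_rS ha hN fun i => ?_, fun s => ?_⟩
  · show (f.appLE U.1 (C.DS {i}) _) c = 0
    rw [Scheme.Hom.appLE, CommRingCat.comp_apply, hc, map_zero]
  · let r : ∀ T : Finset (Fin N), Γ(X', C.DS T) := fun T => X'.presheaf.map (homOfLE (C.DS_le_U T)).op s
    have hr : ∀ {S T : Finset (Fin N)} (h : S ⊆ T), C.res h (r S) = r T := fun h => by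
      show X'.presheaf.map _ (X'.presheaf.map _ s) = X'.presheaf.map _ s
      rw [← CommRingCat.comp_apply, ← Functor.map_comp]
      rfl
    obtain ⟨c, -, hc⟩ := C.exists_section ha (m := 0) hN r (fun T _ => by simp) (fun T hT => by
      obtain ⟨i, j, hij, rfl⟩ := Finset.card_eq_two.1 hT
      rw [Charts.dS, Finset.sum_pair hij, hr, hr, ← add_mul, ← map_add, pow_zero, pow_zero, mul_one, mul_one,
        ksign, ksign, Finset.prod_pair hij, Finset.prod_pair hij, if_neg (lt_irrefl i), if_neg (lt_irrefl j)]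
      rcases lt_or_gt_of_ne hij with h | h
      · rw [if_neg h.not_gt, if_pos h]; simp
      · rw [if_pos h, if_neg h.not_gt]; simp)
    refine ⟨c, X'.sheaf.eq_of_locally_eq' (fun i => C.DS {i}) (f ⁻¹ᵁ U.1) (fun i => homOfLE (C.DS_le_U {i})) ?_ _ s
      fun i => ?_⟩
    · exact C.cover.trans (iSup_mono fun i => le_inf (by simp) (C.le i))
    · exact hc {i} (Finset.card_singleton i)

theorem isIso_unit (hJ : LocData J) (hb : BlowUp.IsBlowUp f J) :
    IsIso ((Scheme.Modules.pullbackPushforwardAdjunction f).unit.app (Coh.structureModule X)) := by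
  have h : (Scheme.Modules.pullbackPushforwardAdjunction f).unit.app (Coh.structureModule X) ≫
      (Scheme.Modules.pushforward f).map (PicLoc.pullbackStructureIso f).hom =
      SheafOfModules.unitToPushforwardObjUnit f.toRingCatSheafHom :=
    ((Scheme.Modules.pullbackPushforwardAdjunction f).homEquiv_unit _ _ _).symm.trans
      (Equiv.apply_symm_apply _ _)
  let u : Coh.structureModule X ⟶ (Scheme.Modules.pushforward f).obj (Coh.structureModule X') :=
    SheafOfModules.unitToPushforwardObjUnit f.toRingCatSheafHom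
  have key : ∀ W : X.affineOpens, (∃ (N : ℕ) (a : Fin N → Γ(X, W.1)), 0 < N ∧ Acyclic a ∧
      J.ideal W = Ideal.span (Set.range a)) → Function.Bijective (u.app W.1) := by
    rintro W ⟨N, a, hN, ha, hI⟩
    obtain ⟨C⟩ := exists_charts J hb W a hI
    exact app_bijective C ha hN
  haveI : IsIso u := by
    refine QDescent.isIso_of_bijective_basis u
      {W | ∃ (hW : IsAffineOpen W), ∃ (N : ℕ) (a : Fin N → Γ(X, W)), 0 < N ∧ Acyclic a ∧
        J.ideal ⟨W, hW⟩ = Ideal.span (Set.range a)} (fun {V} x hx => ?_) fun W ⟨hW, hdata⟩ => key ⟨W, hW⟩ hdata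
    obtain ⟨W, N, a, hxW, hN, ha, hI⟩ := hJ x
    obtain ⟨g, hg, hxg⟩ := W.2.exists_basicOpen_le (⟨x, hx⟩ : V) hxW
    letI : Algebra Γ(X, W.1) Γ(X, X.basicOpen g) := (X.presheaf.map (homOfLE (X.basicOpen_le g)).op).hom.toAlgebra
    haveI : IsLocalization.Away g Γ(X, X.basicOpen g) := by
      exact W.2.isLocalization_of_eq_basicOpen g (homOfLE (X.basicOpen_le g)) rfl
    refine ⟨X.basicOpen g, ⟨W.2.basicOpen g, N, algebraMap _ _ ∘ a, hN,
      KoszulLib.acyclic_localization _ (Submonoid.powers g) ha, ?_⟩, hxg, hg⟩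
    have e := J.map_ideal' (U := X.affineBasicOpen g) (V := W) (homOfLE (X.basicOpen_le g)).op
    rw [Set.range_comp, ← Ideal.map_span, ← hI]
    exact e.symm
  haveI : IsIso ((Scheme.Modules.pullbackPushforwardAdjunction f).unit.app (Coh.structureModule X) ≫
      (Scheme.Modules.pushforward f).map (PicLoc.pullbackStructureIso f).hom) := by
    rw [h]; exact inferInstanceAs (IsIso u)
  exact IsIso.of_isIso_comp_right _ ((Scheme.Modules.pushforward f).map (PicLoc.pullbackStructureIso f).hom)

end Groth.Agent.BlowCech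

namespace Groth.Agent.BlowCech

/-- regular immersions of positive codimension -/
theorem locData_of_codim {X Y : Scheme.{u}} (i : Y ⟶ X) [IsClosedImmersion i] (d : ℕ) (hd : 1 ≤ d)
    (hi : RegImm.IsRegularImmersionOfCodim .regular d i) : LocData i.ker := by
  intro x
  by_cases hx : x ∈ i.ker.support
  · obtain ⟨z, rfl⟩ : x ∈ Set.range i := by
      have h := (Scheme.Hom.support_ker i).le hx
      rwa [i.isClosedEmbedding.isClosed_range.closure_eq] at h
    obtain ⟨U, hz, -, rs, hlen, hrs, hker⟩ := hi.2 z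
    refine ⟨U, rs.length, rs.get, hz, by omega,
      KoszulLib.acyclic_of_isWeaklyRegular' (by rw [List.ofFn_get]; exact hrs.toIsWeaklyRegular), ?_⟩
    refine (Scheme.Hom.ker_apply i U).trans (hker.trans ?_)
    rw [Set.range_list_get]
  · obtain ⟨V, hV, hxV, hle⟩ := exists_isAffineOpen_mem_and_subset (show x ∈ i.ker.support.compl from hx)
    have htop : i.ker.ideal ⟨V, hV⟩ = ⊤ := BlowBC.ideal_eq_top_of_notMem _ _ fun z hz => hle hz
    exact ⟨⟨V, hV⟩, 1, fun _ => 1, hxV, Nat.one_pos, KoszulLib.acyclic_of_span_eq_top (by simp), htop.trans (by simp)⟩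

end Groth.Agent.BlowCech
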