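import Groth.Agent.BlowCech.IdealPow
import Groth.Agent.TMul.Frame
import Groth.Agent.PBundle.Euler
import Mathlib

/-!
# Direct images of inverse images of locally free modules
-/

set_option autoImplicit false
set_option linter.style.haveILetI false
set_option backward.isDefEq.respectTransparency false
set_option backward.isDefEq.respectTransparency.types false
universe u

open CategoryTheory CategoryTheory.Limits AlgebraicGeometry TopologicalSpace Opposite
open Groth.Agent.QC (res resO res_res res_smul app_res)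

noncomputable section

namespace Groth.Agent.BlowCech

open Groth.Agent.SiteCoh
open Wiebe (Acyclic)

variable {X X' : Scheme.{u}} {f : X' ⟶ X}

section Chart

variable {U : X.affineOpens} {N : ℕ} {a : Fin N → Γ(X, U.1)} (C : Charts f U a)

/-- the structure sheaf as a twist -/
def unitTwist : C.Twist (res' (𝟭 X'.Opens) (Coh.toAb (Coh.structureModule X'))) (0 : ℤ) 0 where
  Φ S := AddMonoidHom.mk' (fun s => (show Γ(X', C.DS S) from s)) (fun _ _ => rfl)
  inj _ _ := fun _ _ h => h
  range S _ v := ⟨fun _ => by simp, fun _ => ⟨v, rfl⟩⟩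
  map S T h _ s := by
    rw [pow_zero, map_one, mul_one]
    rfl

theorem tuple_le {n : ℕ} (b : Fin (n + 1) → ULift.{u} (Fin N)) : tupleProd C.Y b ≤ f ⁻¹ᵁ U.1 :=
  (C.tuple_eq_DS b).le.trans (C.DS_le_U _)

variable (M : X'.Modules) {r : ℕ} (e : Fin r → Γ(M, f ⁻¹ᵁ U.1))

/-- combinations of a frame, on cochains -/
def comb {n : ℕ} (z : Fin r → Cochain C.Y (res' (𝟭 X'.Opens) (Coh.toAb (Coh.structureModule X'))) n) :
    Cochain C.Y (res' (𝟭 X'.Opens) (Coh.toAb M)) n :=
  fun b => (∑ i, (show Γ(X', tupleProd C.Y b) from z i b) • res M (tuple_le C b) (e i) : Γ(M, tupleProd C.Y b))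

theorem comb_cd {n : ℕ} (z : Fin r → Cochain C.Y (res' (𝟭 X'.Opens) (Coh.toAb (Coh.structureModule X'))) n)
    (b : Fin (n + 2) → ULift.{u} (Fin N)) :
    cd C.Y (res' (𝟭 X'.Opens) (Coh.toAb M)) (comb C M e z) b =
      comb C M e (fun i => cd C.Y (res' (𝟭 X'.Opens) (Coh.toAb (Coh.structureModule X'))) (z i)) b := by
  rw [cd_sum]
  show ∑ k : Fin (n + 2), (-1 : ℤ) ^ (k : ℕ) • (res M (leOfHom (tupleDrop C.Y b k))
      (∑ i, (show Γ(X', tupleProd C.Y (b ∘ k.succAbove)) from z i (b ∘ k.succAbove)) •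
        res M (tuple_le C (b ∘ k.succAbove)) (e i)) : Γ(M, tupleProd C.Y b)) =
    (∑ i, (show Γ(X', tupleProd C.Y b) from ∑ k : Fin (n + 2), (-1 : ℤ) ^ (k : ℕ) •
      resO X' (leOfHom (tupleDrop C.Y b k)) (z i (b ∘ k.succAbove))) • res M (tuple_le C b) (e i) :
        Γ(M, tupleProd C.Y b))
  simp only [map_sum, res_smul, res_res, Finset.smul_sum, Finset.sum_smul, smul_assoc]
  exact Finset.sum_comm

theorem cechExact_frame (he : TMul.IsFrame e) (ha : Acyclic a) (hN : 0 < N) (n : ℕ) :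
    CechExact C.Y (res' (𝟭 X'.Opens) (Coh.toAb M)) n := by
  intro x hx
  let z : Fin r → Cochain C.Y (res' (𝟭 X'.Opens) (Coh.toAb (Coh.structureModule X'))) (n + 1) :=
    fun i b => (he.equiv (tuple_le C b)).symm (show Γ(M, tupleProd C.Y b) from x b) i
  have hxz : x = comb C M e z := funext fun b => ((he.equiv (tuple_le C b)).apply_symm_apply _).symm
  have hz : ∀ i, cd C.Y _ (z i) = 0 := fun i => funext fun b => by
    have h1 := comb_cd C M e z b
    rw [← hxz, hx] at h1
    exact congrFun ((he.equiv (tuple_le C b)).injective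
      (a₁ := fun i => (show Γ(X', tupleProd C.Y b) from cd C.Y _ (z i) b)) (a₂ := 0)
      (h1.symm.trans (map_zero (he.equiv (tuple_le C b))).symm)) i
  choose w hw using fun i => Charts.cechExact (unitTwist C) ha hN (by omega) le_rfl n (z i) (hz i)
  refine ⟨comb C M e w, funext fun b => ?_⟩
  rw [comb_cd, funext hw, ← hxz]

include C in
theorem subsingleton_hu_frame [M.IsQuasicoherent] (he : TMul.IsFrame e) (ha : Acyclic a) (hN : 0 < N) (q : ℕ) :
    Subsingleton (CohSite.HU (Coh.toAb M) (q + 1) (f ⁻¹ᵁ U.1)) := by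
  obtain ⟨ε⟩ := CohQC.cech_equiv_affine M C.Y (fun n b => by
    rw [← tupleProd_eq_iInf, C.tuple_eq_DS b]
    exact C.affine_DS (Charts.img_nonempty b)) (q + 1)
  rw [Charts.iSup_Y] at ε
  have h := (isZero_cech_iff C.Y _ q).2 (cechExact_frame C M e he ha hN q)
  have := AddCommGrpCat.subsingleton_of_isZero h
  exact ε.symm.toEquiv.subsingleton

end Chart

/-- affine opens with generators of the ideal and a frame of the module -/
def GoodOpens (J : X.IdealSheafData) (E : X.Modules) : Set X.Opens :=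
  {W | ∃ (hW : IsAffineOpen W) (N : ℕ) (a : Fin N → Γ(X, W)) (r : ℕ) (e : Fin r → Γ(E, W)),
    0 < N ∧ Acyclic a ∧ J.ideal ⟨W, hW⟩ = Ideal.span (Set.range a) ∧ TMul.IsFrame e}

theorem goodOpens_basis (J : X.IdealSheafData) (hJ : LocData J) (E : X.Modules) (hE : FlatMod.IsFinLocFree E)
    {V : X.Opens} (x : X) (hx : x ∈ V) : ∃ W ∈ GoodOpens J E, x ∈ W ∧ W ≤ V := by
  obtain ⟨W, N, a, hxW, hN, ha, hI⟩ := hJ x
  obtain ⟨U₀, r, e, hxU₀, he⟩ := TMul.exists_isFrame hE x
  obtain ⟨g, hg, hxg⟩ := W.2.exists_basicOpen_le (⟨x, hx, hxU₀⟩ : (V ⊓ U₀ : X.Opens)) hxW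
  letI : Algebra Γ(X, W.1) Γ(X, X.basicOpen g) := (X.presheaf.map (homOfLE (X.basicOpen_le g)).op).hom.toAlgebra
  haveI : IsLocalization.Away g Γ(X, X.basicOpen g) := by
    exact W.2.isLocalization_of_eq_basicOpen g (homOfLE (X.basicOpen_le g)) rfl
  refine ⟨X.basicOpen g, ⟨W.2.basicOpen g, N, algebraMap _ _ ∘ a, r, _, hN,
    KoszulLib.acyclic_localization _ (Submonoid.powers g) ha, ?_, PBundle.isFrame_res he (hg.trans inf_le_right)⟩,
    hxg, hg.trans inf_le_left⟩
  have e := J.map_ideal' (U := X.affineBasicOpen g) (V := W) (homOfLE (X.basicOpen_le g)).op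
  rw [Set.range_comp, ← Ideal.map_span, ← hI]
  exact e.symm

variable {J : X.IdealSheafData} (hJ : LocData J) (hb : BlowUp.IsBlowUp f J) {E : X.Modules}
  (hE : FlatMod.IsFinLocFree E)
include hJ hb hE

theorem isZero_rpush_pullback (q : ℕ) (hq : 1 ≤ q) :
    IsZero ((Coh.RpushAb f q).obj (Coh.toAb ((Scheme.Modules.pullback f).obj E))) := by
  obtain ⟨p, rfl⟩ := Nat.exists_eq_add_of_le hq
  rw [add_comm]
  obtain ⟨_, _⟩ := qc_qs J hJ hb
  have hM : Coh.IsQCoh ((Scheme.Modules.pullback f).obj E) :=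
    QC.isQCoh_pullback f (LocFree.isQCoh_of_isFinLocFree hE)
  choose W hW hxW hWV using fun x : X => goodOpens_basis J hJ E hE (V := ⊤) x trivial
  refine isZero_rpush_of_locKilled (K := _) (u := Opens.map f.base)
    (CohFinite.directAcyclic_of_hu_vanish f _ hM W (fun x => (hW x).1) (fun x => ⟨x, hxW x⟩) (fun x k => ?_) p)
  obtain ⟨hWa, N, a, r, e, hN, ha, hI, he⟩ := hW x
  obtain ⟨C⟩ := exists_charts J hb ⟨W x, hWa⟩ a hI
  haveI : ((Scheme.Modules.pullback f).obj E).IsQuasicoherent := hM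
  exact subsingleton_hu_frame C _ _ (he.pullback f) ha hN k

theorem isIso_unit_locFree : IsIso ((Scheme.Modules.pullbackPushforwardAdjunction f).unit.app E) := by
  refine QDescent.isIso_of_bijective_basis _ (GoodOpens J E) (fun {V} x hx => goodOpens_basis J hJ E hE x hx) ?_
  rintro W ⟨hWa, N, a, r, e, hN, ha, hI, he⟩
  obtain ⟨C⟩ := exists_charts J hb ⟨W, hWa⟩ a hI
  have hbij : Function.Bijective (f.app W) := app_bijective C ha hN
  let η := (Scheme.Modules.pullbackPushforwardAdjunction f).unit.app E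
  let e' : Fin r → Γ((Scheme.Modules.pullback f).obj E, f ⁻¹ᵁ W) := fun i => η.app W (e i)
  have he' : TMul.IsFrame e' := he.pullback f
  have key : ∀ c : Fin r → Γ(X, W), η.app W (he.equiv le_rfl c) = he'.equiv le_rfl (fun i => f.app W (c i)) := by
    intro c
    show η.app W (∑ i, c i • res E le_rfl (e i)) = ∑ i, f.app W (c i) • res _ le_rfl (e' i)
    rw [map_sum]
    refine Finset.sum_congr rfl fun i _ => ?_
    rw [QC.res_self, QC.res_self]
    exact TMul.app_smul η (c i) (e i)
  have h1 : Function.Bijective (fun c : Fin r → Γ(X, W) => he'.equiv le_rfl (fun i => f.app W (c i))) :=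
    (he'.equiv le_rfl).bijective.comp (Function.Bijective.piMap fun _ => hbij)
  rw [← funext key] at h1
  exact (Function.Bijective.of_comp_iff _ (he.equiv le_rfl).bijective).1 h1

end Groth.Agent.BlowCech
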