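import Groth.Agent.BlowCech.IdealPow
import Groth.Agent.BlowCech.LocFree
import Groth.Agent.CurveRR.GlobGen
import Groth.Agent.CohFinite.Tensor
import Groth.Agent.PBundle.FrameTools
import Mathlib

/-!
# The inverse of the exceptional ideal
-/

set_option autoImplicit false
set_option linter.style.haveILetI false
set_option backward.isDefEq.respectTransparency false
set_option backward.isDefEq.respectTransparency.types false
universe u

open CategoryTheory CategoryTheory.Limits AlgebraicGeometry TopologicalSpace Opposite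
open Groth.Agent.QC (res resO res_res res_smul app_res)
open TMul (tm)

noncomputable section

namespace Groth.Agent.BlowCech

open Groth.Agent.SiteCoh
open Wiebe (Acyclic)

variable {X X' : Scheme.{u}} {f : X' ⟶ X}

/-- the exceptional ideal as a module -/
abbrev EMod (f : X' ⟶ X) (J : X.IdealSheafData) : X'.Modules := ClSub.idealMod (BlowUp.exceptional f J)

/-- the map `L ⊗ I → L` -/
def lam (J : X.IdealSheafData) (L : X'.Modules) : CohB1.tensorMod L (EMod f J) ⟶ L :=
  TMul.commHom L (EMod f J) ≫ CohFinite.tmap (ClSub.idealModι (BlowUp.exceptional f J)) L ≫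
    (TMul.leftUnitIso L).hom

theorem lam_tm (J : X.IdealSheafData) (L : X'.Modules) {V : X'.Opens} (s : Γ(L, V)) (t : Γ(EMod f J, V)) :
    (lam J L).app V (tm s t) =
      (show Γ(X', V) from (ClSub.idealModι (BlowUp.exceptional f J)).app V t) • s := by
  show (TMul.leftUnitIso L).hom.app V ((CohFinite.tmap _ L).app V ((TMul.commHom L (EMod f J)).app V (tm s t))) = _
  rw [TMul.commHom_tm, CohFinite.tmap_tm]
  exact CurveRR.leftUnitIso_tm L _ s

/-- the section of the inverse of the exceptional ideal -/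
def secOne {J : X.IdealSheafData} {L : X'.Modules}
    (ε : CohB1.tensorMod L (EMod f J) ≅ Coh.structureModule X') : Coh.structureModule X' ⟶ L :=
  ε.inv ≫ lam J L

variable {U : X.affineOpens} {N : ℕ} {a : Fin N → Γ(X, U.1)} (C : Charts f U a) {J : X.IdealSheafData}
  (hI : J.ideal U = Ideal.span (Set.range a)) {L : X'.Modules}
  (ε : CohB1.tensorMod L (EMod f J) ≅ Coh.structureModule X')

include hI in
theorem exists_bar (S : Finset (Fin N)) (hS : S.Nonempty) {T : Finset (Fin N)} (hT : T.Nonempty) :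
    ∃ t : Γ(EMod f J, C.DS S),
      (ClSub.idealModι (BlowUp.exceptional f J)).app (C.DS S) t = C.rS S (∏ j ∈ T, a j) := by
  refine (QC.mem_range_idealModι_affine (BlowUp.exceptional f J) ⟨C.DS S, C.affine_DS hS⟩ _).2 ?_
  have h := ideal_pow_DS C hI hS 1
  rw [pow_one, pow_one] at h
  rw [h]
  obtain ⟨i, hi⟩ := hT
  exact Ideal.mem_map_of_mem _ (Ideal.mem_of_dvd _ (Finset.dvd_prod_of_mem a hi) (Ideal.subset_span ⟨i, rfl⟩))

include hI in
/-- the section of the ideal given by the product of the generators of a set of charts -/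
def bar (S : Finset (Fin N)) : Γ(EMod f J, C.DS S) :=
  if h : S.Nonempty then (exists_bar C hI S h h).choose else 0

include hI in
theorem app_bar {S : Finset (Fin N)} (h : S.Nonempty) :
    (show Γ(X', C.DS S) from (ClSub.idealModι (BlowUp.exceptional f J)).app (C.DS S) (bar C hI S)) =
      C.rS S (∏ j ∈ S, a j) := by
  rw [bar, dif_pos h]
  exact (exists_bar C hI S h h).choose_spec

include hI in
theorem exists_isGen {S : Finset (Fin N)} {i : Fin N} (hi : i ∈ S) :
    ∃ t : Γ(EMod f J, C.DS S), TMul.IsGen t ∧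
      (show Γ(X', C.DS S) from (ClSub.idealModι (BlowUp.exceptional f J)).app (C.DS S) t) = C.rS S (a i) := by
  have hS : S.Nonempty := ⟨i, hi⟩
  obtain ⟨t, ht⟩ := exists_bar C hI S hS (Finset.singleton_nonempty i)
  rw [Finset.prod_singleton] at ht
  have hinj := QC.app_injective_of_mono (ClSub.idealModι (BlowUp.exceptional f J)) (C.DS S)
  have hb : TMul.IsFrame (fun _ : Fin 1 => t) := by
    refine PBundle.isFrame_of_bijective (QC.isQCoh_idealMod _) (C.affine_DS hS) ⟨fun c c' h => ?_, fun s => ?_⟩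
    · simp only [Fin.sum_univ_one] at h
      have h1 := congrArg ((ClSub.idealModι (BlowUp.exceptional f J)).app (C.DS S)) h
      rw [TMul.app_smul, TMul.app_smul, ht] at h1
      exact funext fun k => by
        rw [Subsingleton.elim k 0]
        exact (mul_cancel_right_mem_nonZeroDivisors (C.nzd_DS hi)).1 h1
    · have h0 := (QC.mem_range_idealModι_affine (BlowUp.exceptional f J) ⟨C.DS S, C.affine_DS hS⟩ _).1 ⟨s, rfl⟩
      have h := ideal_pow_DS C hI hS 1
      rw [pow_one, pow_one, C.IS_eq hi] at h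
      rw [h] at h0
      obtain ⟨c, hc⟩ := Ideal.mem_span_singleton'.1 h0
      refine ⟨fun _ => c, hinj ?_⟩
      simp only [Fin.sum_univ_one]
      rw [TMul.app_smul, ht]
      exact hc
  refine ⟨t, fun V hV => ?_, ht⟩
  have := (hb.equiv hV).bijective.comp (Equiv.funUnique (Fin 1) Γ(X', V)).symm.bijective
  convert this using 1
  funext c
  show c • res _ hV t = ∑ k, (Equiv.funUnique (Fin 1) Γ(X', V)).symm c k • res _ hV t
  rw [Fin.sum_univ_one]
  rfl

/-- the twisted value of a section -/
def phi (S : Finset (Fin N)) : Γ(L, C.DS S) →+ Γ(X', C.DS S) :=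
  AddMonoidHom.mk' (fun s => (show Γ(X', C.DS S) from ε.hom.app (C.DS S) (tm s (bar C hI S))))
    (fun s t => by rw [TMul.tm_add, map_add])

theorem bar_eq {S : Finset (Fin N)} {i : Fin N} (hi : i ∈ S) {t : Γ(EMod f J, C.DS S)}
    (ht : (show Γ(X', C.DS S) from (ClSub.idealModι (BlowUp.exceptional f J)).app (C.DS S) t) = C.rS S (a i)) :
    bar C hI S = C.rS S (∏ j ∈ S.erase i, a j) • t := by
  refine QC.app_injective_of_mono (ClSub.idealModι (BlowUp.exceptional f J)) (C.DS S) ?_
  rw [TMul.app_smul]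
  refine (app_bar C hI ⟨i, hi⟩).trans ?_
  rw [← Finset.mul_prod_erase S a hi, map_mul, mul_comm, ← ht]
  rfl

theorem phi_eq {S : Finset (Fin N)} {i : Fin N} (hi : i ∈ S) {t : Γ(EMod f J, C.DS S)}
    (ht : (show Γ(X', C.DS S) from (ClSub.idealModι (BlowUp.exceptional f J)).app (C.DS S) t) = C.rS S (a i))
    (s : Γ(L, C.DS S)) :
    phi C hI ε S s = C.rS S (∏ j ∈ S.erase i, a j) * (show Γ(X', C.DS S) from ε.hom.app (C.DS S) (tm s t)) := by
  show (show Γ(X', C.DS S) from ε.hom.app (C.DS S) (tm s (bar C hI S))) = _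
  rw [bar_eq C hI hi ht, TMul.tm_smul, TMul.app_smul]
  rfl

theorem bijective_pair {S : Finset (Fin N)} {t : Γ(EMod f J, C.DS S)} (ht : TMul.IsGen t) :
    Function.Bijective fun s : Γ(L, C.DS S) => (show Γ(X', C.DS S) from ε.hom.app (C.DS S) (tm s t)) := by
  have h1 := TMul.tm_bijective (M := L) ht (C.DS S) le_rfl
  simp only [QC.res_self] at h1
  exact (ConcreteCategory.bijective_of_isIso (ε.hom.app (C.DS S))).comp h1

theorem phi_secOne {S : Finset (Fin N)} {i : Fin N} (hi : i ∈ S) (c : Γ(X', C.DS S)) :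
    phi C hI ε S ((secOne ε).app (C.DS S) c) = c * C.rS S (∏ j ∈ S, a j) := by
  obtain ⟨t, hgen, ht⟩ := exists_isGen C hI hi
  obtain ⟨ℓ, hℓ⟩ := (bijective_pair C ε hgen).2 c
  have h1 : (secOne ε).app (C.DS S) c = C.rS S (a i) • ℓ := by
    show (lam J L).app (C.DS S) (ε.inv.app (C.DS S) c) = _
    rw [← hℓ]
    have e : ε.inv.app (C.DS S) (ε.hom.app (C.DS S) (tm ℓ t)) = tm ℓ t :=
      congrArg (fun φ : CohB1.tensorMod L (EMod f J) ⟶ _ => φ.app (C.DS S) (tm ℓ t)) ε.hom_inv_id
    refine (congrArg ((lam J L).app (C.DS S)) e).trans ?_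
    rw [lam_tm, ← ht]
  rw [h1, phi_eq C hI ε hi ht, TMul.smul_tm, TMul.app_smul, ← Finset.mul_prod_erase S a hi, map_mul]
  show _ * (C.rS S (a i) * (show Γ(X', C.DS S) from ε.hom.app (C.DS S) (tm ℓ t))) = _
  rw [show (show Γ(X', C.DS S) from ε.hom.app (C.DS S) (tm ℓ t)) = c from hℓ]
  ring

/-- the inverse of the exceptional ideal as a twist -/
def invTwist : C.Twist (res' (𝟭 X'.Opens) (Coh.toAb L)) (-1 : ℤ) 1 where
  Φ S := phi C hI ε S
  inj S hS := by
    obtain ⟨i, hi⟩ := hS
    obtain ⟨t, hgen, ht⟩ := exists_isGen C hI hi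
    intro s s' h
    have h' := (phi_eq C hI ε hi ht s).symm.trans (h.trans (phi_eq C hI ε hi ht s'))
    refine (bijective_pair C ε hgen).1 ((mul_cancel_left_mem_nonZeroDivisors ?_).1 h')
    simpa using C.nzd_prod S (Finset.erase_subset i S) 1
  range S hS v := by
    obtain ⟨i, hi⟩ := hS
    obtain ⟨t, hgen, ht⟩ := exists_isGen C hI hi
    have hspan : C.IS S ^ ((-1 : ℤ) + ((1 : ℕ) : ℤ) * S.card).toNat =
        Ideal.span {C.rS S (∏ j ∈ S.erase i, a j)} := by
      rw [show ((-1 : ℤ) + ((1 : ℕ) : ℤ) * S.card).toNat = (S.erase i).card by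
          rw [Finset.card_erase_of_mem hi]; omega,
        map_prod, ← Ideal.prod_span_singleton, ← Finset.prod_const]
      exact Finset.prod_congr rfl fun j hj => C.IS_eq (Finset.mem_of_mem_erase hj)
    rw [hspan, Ideal.mem_span_singleton']
    constructor
    · rintro ⟨s, rfl⟩
      exact ⟨_, (mul_comm _ _).trans (phi_eq C hI ε hi ht s).symm⟩
    · rintro ⟨c, rfl⟩
      obtain ⟨s, hs⟩ := (bijective_pair C ε hgen).2 c
      exact ⟨s, (phi_eq C hI ε hi ht s).trans (by rw [← hs, mul_comm])⟩
  map S T h hS s := by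
    obtain ⟨i, hi⟩ := hS
    have hbar : bar C hI T = C.rS T (∏ j ∈ T \ S, a j) • res (EMod f J) (C.DS_anti h) (bar C hI S) := by
      refine QC.app_injective_of_mono (ClSub.idealModι (BlowUp.exceptional f J)) (C.DS T) ?_
      rw [TMul.app_smul, ← app_res]
      refine (app_bar C hI ⟨i, h hi⟩).trans ?_
      show _ = C.rS T _ * C.res h (show Γ(X', C.DS S) from (ClSub.idealModι (BlowUp.exceptional f J)).app (C.DS S) (bar C hI S))
      rw [app_bar C hI ⟨i, hi⟩, C.res_rS, ← map_mul, Finset.prod_sdiff h]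
    show (show Γ(X', C.DS T) from ε.hom.app (C.DS T) (tm (res L (C.DS_anti h) s) (bar C hI T))) = _
    rw [hbar, TMul.tm_smul, TMul.app_smul, ← TMul.res_tm, ← app_res, pow_one]
    exact mul_comm _ _

include C hI ε in
theorem subsingleton_hu_inv [L.IsQuasicoherent] (ha : Acyclic a) (hN : 2 ≤ N) (q : ℕ) :
    Subsingleton (CohSite.HU (Coh.toAb L) (q + 1) (f ⁻¹ᵁ U.1)) :=
  Charts.subsingleton_hu L (invTwist C hI ε) ha (by omega) (by omega) (by norm_num) q

include C hI in
/-- sections of the inverse over the preimage come from the base -/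
theorem secOne_bijective (ha : Acyclic a) (hN : 2 ≤ N) :
    Function.Bijective fun c : Γ(X, U.1) => (secOne ε).app (f ⁻¹ᵁ U.1) (f.app U.1 c) := by
  classical
  have hsec : ∀ (T : Finset (Fin N)) (c : Γ(X, U.1)),
      res L (C.DS_le_U T) ((secOne ε).app (f ⁻¹ᵁ U.1) (f.app U.1 c)) = (secOne ε).app (C.DS T) (C.rS T c) := by
    intro T c
    rw [app_res]
    rfl
  have hone : ∀ (j : Fin N) (c : Γ(X, U.1)),
      phi C hI ε {j} ((secOne ε).app (C.DS {j}) (C.rS {j} c)) = C.rS {j} c * C.rS {j} (a j) := fun j c => by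
    rw [phi_secOne C hI ε (Finset.mem_singleton_self j), Finset.prod_singleton]
  refine ⟨fun c c' h => ?_, fun z => ?_⟩
  · refine sub_eq_zero.1 (C.eq_zero_of_rS ha (by omega) fun j => ?_)
    have h1 := congrArg (fun w => phi C hI ε {j} (res L (C.DS_le_U {j}) w)) h
    simp only at h1
    rw [hsec, hsec, hone, hone] at h1
    rw [map_sub, sub_eq_zero]
    exact (mul_cancel_right_mem_nonZeroDivisors (C.nzd_DS (Finset.mem_singleton_self j))).1 h1
  · let v : ∀ T : Finset (Fin N), Γ(X', C.DS T) := fun T => phi C hI ε T (res L (C.DS_le_U T) z)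
    have hv : ∀ T : Finset (Fin N), T.card = 1 → v T ∈ C.IS T ^ ((-1 : ℤ) + ((1 : ℕ) : ℤ) * (1 : ℕ)).toNat :=
      fun T _ => by simp
    have hd : ∀ T : Finset (Fin N), T.card = 1 + 1 → C.dS 1 v T = 0 := by
      intro T hT
      have hterm : ∀ j ∈ T, C.rS T (ksign T j * a j ^ 1) * C.res (Finset.erase_subset j T) (v (T.erase j)) =
          C.rS T (ksign T j) * phi C hI ε T (res L (C.DS_le_U T) z) := by
        intro j hj
        have hne : (T.erase j).Nonempty := Finset.card_pos.1 (by rw [Finset.card_erase_of_mem hj]; omega)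
        have e := (invTwist C hI ε).map (T.erase j) T (Finset.erase_subset j T) hne (res L (C.DS_le_U _) z)
        rw [Finset.sdiff_erase_self hj, Finset.prod_singleton] at e
        have e1 : phi C hI ε T (res L (C.DS_le_U T) z) =
            C.res (Finset.erase_subset j T) (v (T.erase j)) * C.rS T (a j ^ 1) :=
          (congrArg (phi C hI ε T) (res_res L (C.DS_anti (Finset.erase_subset j T)) (C.DS_le_U _) z).symm).trans e
        rw [e1, map_mul]
        ring
      rw [Charts.dS, Finset.sum_congr rfl hterm, ← Finset.sum_mul, ← map_sum]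
      obtain ⟨i, j, hij, rfl⟩ := Finset.card_eq_two.1 hT
      rw [Finset.sum_pair hij, ksign, ksign, Finset.prod_pair hij, Finset.prod_pair hij, if_neg (lt_irrefl i),
        if_neg (lt_irrefl j)]
      rcases lt_or_gt_of_ne hij with h | h
      · rw [if_neg h.not_gt, if_pos h]; simp
      · rw [if_pos h, if_neg h.not_gt]; simp
    obtain ⟨k, h, -, he⟩ := C.exists_koszul ha (m := (-1 : ℤ)) (δ := 1) (by omega) (by omega) (by norm_num)
      (p := 1) Nat.one_pos v hv hd
    refine ⟨h ∅, QC.section_eq_of_locally fun x hx => ?_⟩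
    obtain ⟨j, hj⟩ := Opens.mem_iSup.1 (C.cover hx)
    refine ⟨C.DS {j}, C.DS_le_U _, ⟨by simpa using hj, hx⟩, ?_⟩
    refine (invTwist C hI ε).inj {j} (Finset.singleton_nonempty j) ?_
    show phi C hI ε {j} _ = v {j}
    rw [hsec, hone]
    have h1 := he {j} (Finset.card_singleton j)
    simp only [dK, ksign, Finset.sum_singleton, Finset.prod_singleton, lt_irrefl, if_false, one_mul,
      Finset.erase_singleton] at h1
    refine (mul_cancel_right_mem_nonZeroDivisors (C.nzd_prod {j} (Finset.Subset.refl _) k)).1 ?_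
    rw [Finset.prod_singleton, ← h1]
    simp only [map_mul, map_pow, pow_succ]
    ring

end Groth.Agent.BlowCech
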