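import Groth.Agent.BlowCech.InvExc
import Groth.Agent.S2122
import Groth.Agent.QDescent.Adjoint
import Mathlib

/-!
# Direct images of the inverse of the exceptional ideal
-/

set_option autoImplicit false
set_option linter.style.haveILetI false
set_option backward.isDefEq.respectTransparency false
set_option backward.isDefEq.respectTransparency.types false
universe u

open CategoryTheory CategoryTheory.Limits AlgebraicGeometry TopologicalSpace Opposite

noncomputable section

namespace Groth.Agent.BlowCech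

open Groth.Agent.SiteCoh
open Wiebe (Acyclic)

variable {X X' : Scheme.{u}} {f : X' ⟶ X}

/-- affine opens with at least two generators -/
def GoodOpens2 (J : X.IdealSheafData) : Set X.Opens :=
  {W | ∃ (hW : IsAffineOpen W) (N : ℕ) (a : Fin N → Γ(X, W)),
    2 ≤ N ∧ Acyclic a ∧ J.ideal ⟨W, hW⟩ = Ideal.span (Set.range a)}

theorem goodOpens2_basis {Z : Scheme.{u}} (i : Z ⟶ X) [IsClosedImmersion i] (d : ℕ) (hd : 2 ≤ d)
    (hi : RegImm.IsRegularImmersionOfCodim .regular d i) {V : X.Opens} (x : X) (hx : x ∈ V) :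
    ∃ W ∈ GoodOpens2 i.ker, x ∈ W ∧ W ≤ V := by
  by_cases hxs : x ∈ i.ker.support
  · obtain ⟨z, rfl⟩ : x ∈ Set.range i := by
      have h := (Scheme.Hom.support_ker i).le hxs
      rwa [i.isClosedEmbedding.isClosed_range.closure_eq] at h
    obtain ⟨U, hz, -, rs, hlen, hrs, hker⟩ := hi.2 z
    have ha : Acyclic rs.get :=
      KoszulLib.acyclic_of_isWeaklyRegular' (by rw [List.ofFn_get]; exact hrs.toIsWeaklyRegular)
    have hI : i.ker.ideal U = Ideal.span (Set.range rs.get) := by
      refine (Scheme.Hom.ker_apply i U).trans (hker.trans ?_)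
      rw [Set.range_list_get]
    obtain ⟨g, hg, hxg⟩ := U.2.exists_basicOpen_le (⟨_, hx⟩ : V) hz
    letI : Algebra Γ(X, U.1) Γ(X, X.basicOpen g) := (X.presheaf.map (homOfLE (X.basicOpen_le g)).op).hom.toAlgebra
    haveI : IsLocalization.Away g Γ(X, X.basicOpen g) := by
      exact U.2.isLocalization_of_eq_basicOpen g (homOfLE (X.basicOpen_le g)) rfl
    refine ⟨X.basicOpen g, ⟨U.2.basicOpen g, rs.length, algebraMap _ _ ∘ rs.get, by omega,
      KoszulLib.acyclic_localization _ (Submonoid.powers g) ha, ?_⟩, hxg, hg⟩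
    have e := i.ker.map_ideal' (U := X.affineBasicOpen g) (V := U) (homOfLE (X.basicOpen_le g)).op
    rw [Set.range_comp, ← Ideal.map_span, ← hI]
    exact e.symm
  · obtain ⟨W, hW, hxW, hle⟩ := exists_isAffineOpen_mem_and_subset (show x ∈ V ⊓ i.ker.support.compl from ⟨hx, hxs⟩)
    have htop : i.ker.ideal ⟨W, hW⟩ = ⊤ := BlowBC.ideal_eq_top_of_notMem _ _ fun z hz => (hle hz).2
    exact ⟨W, ⟨hW, 2, fun _ => 1, le_rfl, KoszulLib.acyclic_of_span_eq_top (by simp), htop.trans (by simp)⟩, hxW,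
      fun z hz => (hle hz).1⟩

theorem isQCoh_of_inverse {M L : X.Modules} (hL : ClSub.IsInverseOf L M) : Coh.IsQCoh L := by
  obtain ⟨e⟩ := hL
  exact LocFree.isQCoh_of_isFinLocFree fun y =>
    let ⟨U, hU, h⟩ := CurveRR.isFinLocFreeOfRank_one (Groth.Agent.S2122.result L M e) y; ⟨U, 1, hU, h⟩

variable {Z : Scheme.{u}} (i : Z ⟶ X) [IsClosedImmersion i] {d : ℕ} (hd : 2 ≤ d)
  (hi : RegImm.IsRegularImmersionOfCodim .regular d i) (hb : BlowUp.IsBlowUp f i.ker)
  {L : X'.Modules} (hL : ClSub.IsInverseOf L (ClSub.idealMod (BlowUp.exceptional f i.ker)))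
include hd hi hb hL

theorem isZero_rpush_inv (q : ℕ) (hq : 1 ≤ q) : IsZero ((Coh.RpushAb f q).obj (Coh.toAb L)) := by
  obtain ⟨p, rfl⟩ := Nat.exists_eq_add_of_le hq
  rw [add_comm]
  have hJ := locData_of_codim i d (by omega) hi
  obtain ⟨_, _⟩ := qc_qs i.ker hJ hb
  have hM := isQCoh_of_inverse hL
  choose W hW hxW hWV using fun x : X => goodOpens2_basis i d hd hi (V := ⊤) x trivial
  refine isZero_rpush_of_locKilled (K := _) (u := Opens.map f.base)
    (CohFinite.directAcyclic_of_hu_vanish f _ hM W (fun x => (hW x).1) (fun x => ⟨x, hxW x⟩) (fun x k => ?_) p)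
  obtain ⟨hWa, N, a, hN, ha, hI⟩ := hW x
  obtain ⟨C⟩ := exists_charts i.ker hb ⟨W x, hWa⟩ a hI
  haveI : L.IsQuasicoherent := hM
  obtain ⟨ε⟩ := hL
  exact subsingleton_hu_inv C hI ε ha hN k

theorem nonempty_push_inv : Nonempty ((Scheme.Modules.pushforward f).obj L ≅ Coh.structureModule X) := by
  obtain ⟨ε⟩ := hL
  let φ : Coh.structureModule X ⟶ (Scheme.Modules.pushforward f).obj L :=
    (SheafOfModules.unitToPushforwardObjUnit f.toRingCatSheafHom :
      Coh.structureModule X ⟶ (Scheme.Modules.pushforward f).obj (Coh.structureModule X')) ≫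
      (Scheme.Modules.pushforward f).map (secOne ε)
  haveI : IsIso φ := by
    refine QDescent.isIso_of_bijective_basis φ (GoodOpens2 i.ker) (fun {V} x hx => goodOpens2_basis i d hd hi x hx) ?_
    rintro W ⟨hWa, N, a, hN, ha, hI⟩
    obtain ⟨C⟩ := exists_charts i.ker hb ⟨W, hWa⟩ a hI
    exact secOne_bijective C hI ε ha hN
  exact ⟨(asIso φ).symm⟩

end Groth.Agent.BlowCech
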