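import Groth.Agent.KoszulLib.Basic
import Groth.Agent.KoszulLib.H1Quasi
import Groth.Agent.KoszBlow.Tail
import Groth.Agent.CechX.KoszulPoly
import Groth.Agent.RegIdeal.Quasi
import Mathlib

/-!
# Koszul complexes of powers, filtered by powers of the ideal
-/

set_option autoImplicit false
set_option linter.style.haveILetI false
universe u

namespace Groth.Agent.BlowCech

open Wiebe KoszulLib

variable {R : Type u} [CommRing R]

section Powers

variable {n : ℕ} {f : Fin (n + 1) → R}

theorem exists_decomp (hf : Acyclic f) {x : X R n} (hx : d (Fin.tail f) x = 0) :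
    ∃ (z v : X R n) (r : R), d (Fin.tail f) z = 0 ∧ x = f 0 • z + d (Fin.tail f) v + r • bot R n := by
  have hX : d f (Wiebe.mk (x, 0)) = 0 := by
    apply Wiebe.ext' <;> simp [hx]
  obtain ⟨V, r, hV⟩ := hf _ hX
  have h0 := congrArg p0 hV
  have h1 := congrArg p1 hV
  simp only [p1_mk, p0_mk, map_add, map_smul, p1_d, p0_d, bot, smul_zero, add_zero] at h0 h1
  exact ⟨p1 V, p0 V, r, neg_eq_zero.1 h1.symm, by rw [h0]; abel⟩

theorem mem_range_of_pow_smul (hf : Acyclic f) : ∀ (k : ℕ) {z v : X R n}, d (Fin.tail f) z = 0 →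
    f 0 ^ k • z = d (Fin.tail f) v → z ∈ LinearMap.range (d (Fin.tail f)) := by
  intro k
  induction k with
  | zero => intro z v _ h; exact ⟨v, by rw [← h, pow_zero, one_smul]⟩
  | succ k ih =>
    intro z v hz h
    rw [pow_succ, mul_smul] at h
    obtain ⟨w, hw⟩ := ih (by rw [map_smul, hz, smul_zero]) h
    exact KoszBlow.mem_range_of_smul hf hz hw.symm

theorem exists_decomp_pow (hf : Acyclic f) : ∀ (k : ℕ) {x : X R n}, d (Fin.tail f) x = 0 →
    ∃ (z v : X R n) (r : R), d (Fin.tail f) z = 0 ∧ x = f 0 ^ k • z + d (Fin.tail f) v + r • bot R n := by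
  intro k
  induction k with
  | zero => exact fun {x} hx => ⟨x, 0, 0, hx, by simp⟩
  | succ k ih =>
    intro x hx
    obtain ⟨z, v, r, hz, rfl⟩ := ih hx
    obtain ⟨z', v', r', hz', rfl⟩ := exists_decomp hf hz
    refine ⟨z', v + f 0 ^ k • v', r + f 0 ^ k * r', hz', ?_⟩
    rw [map_add, map_smul, pow_succ, mul_smul, smul_add, smul_add, add_smul, mul_smul]
    abel

theorem acyclic_cons_pow (hf : Acyclic f) (k : ℕ) : Acyclic (Fin.cons (f 0 ^ k) (Fin.tail f) : Fin (n + 1) → R) := by
  intro Z hZ
  have h0 : d (Fin.tail f) (p0 Z) + f 0 ^ k • p1 Z = 0 := by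
    have := congrArg p0 hZ
    simpa using this
  have h1 : d (Fin.tail f) (p1 Z) = 0 := by
    have := congrArg p1 hZ
    simpa using this
  obtain ⟨a, ha⟩ := mem_range_of_pow_smul hf k h1 (v := -p0 Z) (by
    rw [map_neg, eq_neg_iff_add_eq_zero, add_comm, h0])
  obtain ⟨y, v, r, hy, he⟩ := exists_decomp_pow hf k (x := p0 Z + f 0 ^ k • a) (by
    rw [map_add, map_smul, ha, h0])
  refine ⟨Wiebe.mk (v, y - a), r, Wiebe.ext' ?_ ?_⟩
  · simp only [map_add, map_smul, p0_d, p0_mk, p1_mk, bot, Fin.tail_cons, Fin.cons_zero]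
    rw [eq_sub_of_add_eq he, smul_sub]
    abel
  · simp only [map_add, map_smul, p1_d, p1_mk, bot, smul_zero, add_zero, Fin.tail_cons, map_sub, hy, ha]
    simp

theorem acyclic_update_pow (hf : Acyclic f) (j : Fin (n + 1)) (k : ℕ) : Acyclic (Function.update f j (f j ^ k)) := by
  have h := acyclic_comp_equiv (Equiv.swap 0 j) (acyclic_cons_pow (acyclic_comp_equiv (Equiv.swap 0 j) hf) k)
  convert h using 1
  funext i
  have e : Fin.cons ((f ∘ Equiv.swap 0 j) 0 ^ k) (Fin.tail (f ∘ Equiv.swap 0 j)) =
      Function.update (f ∘ Equiv.swap 0 j) 0 ((f ∘ Equiv.swap 0 j) 0 ^ k) := by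
    conv_rhs => rw [← Fin.cons_self_tail (f ∘ Equiv.swap 0 j), Fin.update_cons_zero]
    simp only [Fin.cons_zero]
  rw [Function.comp_apply, e]
  rcases eq_or_ne i j with rfl | hi
  · simp
  · rw [Function.update_of_ne hi, Function.update_of_ne]
    · simp
    · exact fun h => hi (by simpa using congrArg (Equiv.swap 0 j) h)

end Powers

theorem acyclic_pow {N : ℕ} {f : Fin N → R} (hf : Acyclic f) (k : ℕ) : Acyclic (fun j => f j ^ k) := by
  rcases N with _ | n
  · exact acyclic_nil _
  suffices h : ∀ s : Finset (Fin (n + 1)), Acyclic (fun j => if j ∈ s then f j ^ k else f j) by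
    simpa using h Finset.univ
  intro s
  induction s using Finset.induction with
  | empty => simpa using hf
  | insert i s hi ih =>
    have h := acyclic_update_pow ih i k
    convert h using 1
    funext j
    rcases eq_or_ne j i with rfl | hj
    · simp [hi]
    · simp [hj]

theorem acyclic_X (A : Type u) [CommRing A] (N : ℕ) :
    Acyclic (fun j : Fin N => (MvPolynomial.X j : MvPolynomial (Fin N) A)) :=
  acyclic_of_isWeaklyRegular' (CechX.isWeaklyRegular_X N)

/-! ## Cochains on finite subsets -/

variable {N : ℕ}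

/-- the sign of `j` in `T` -/
def ksign (T : Finset (Fin N)) (j : Fin N) : R := ∏ i ∈ T, if i < j then -1 else 1

/-- the Koszul cochain differential -/
def dK (f : Fin N → R) (z : Finset (Fin N) → R) (T : Finset (Fin N)) : R :=
  ∑ j ∈ T, ksign T j * f j * z (T.erase j)

theorem ksign_mul_self (T : Finset (Fin N)) (j : Fin N) : (ksign T j : R) * ksign T j = 1 := by
  rw [ksign, ← Finset.prod_mul_distrib]
  exact Finset.prod_eq_one fun i _ => by split_ifs <;> ring

theorem map_ksign {S : Type u} [CommRing S] (φ : R →+* S) (T : Finset (Fin N)) (j : Fin N) :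
    φ (ksign T j) = ksign T j := by
  rw [ksign, map_prod]
  exact Finset.prod_congr rfl fun i _ => by split_ifs <;> simp

theorem map_dK {S : Type u} [CommRing S] (φ : R →+* S) (f : Fin N → R) (z : Finset (Fin N) → R)
    (T : Finset (Fin N)) : φ (dK f z T) = dK (φ ∘ f) (φ ∘ z) T := by
  simp [dK, map_sum, map_ksign]

theorem dK_sub (f : Fin N → R) (z z' : Finset (Fin N) → R) (T : Finset (Fin N)) :
    dK f (z - z') T = dK f z T - dK f z' T := by
  simp [dK, mul_sub, Finset.sum_sub_distrib]

theorem dK_congr (f : Fin N → R) {z z' : Finset (Fin N) → R} {T : Finset (Fin N)}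
    (h : ∀ j ∈ T, z (T.erase j) = z' (T.erase j)) : dK f z T = dK f z' T :=
  Finset.sum_congr rfl fun j hj => by rw [h j hj]

theorem eps_apply : ∀ {N : ℕ} (z : X R N), eps z = z (fun _ => false) := by
  intro N
  induction N with
  | zero => intro z; exact congrArg z (Subsingleton.elim _ _)
  | succ N ih =>
    intro z
    show eps (p0 z) = _
    rw [ih]
    show z (Fin.cons false fun _ => false) = _
    exact congrArg z (funext fun i => Fin.cases rfl (fun _ => rfl) i)

/-- the sign of the differential of the Wiebe model -/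
def wsign (s : Fin N → Bool) (j : Fin N) : R := ∏ i, if i < j ∧ s i = true then -1 else 1

theorem d_apply : ∀ {N : ℕ} (f : Fin N → R) (z : X R N) (s : Fin N → Bool),
    d f z s = ∑ j, if s j = true then 0 else wsign s j * f j * z (Function.update s j true) := by
  intro N
  induction N with
  | zero => intro f z s; simp [d]
  | succ N ih =>
    intro f z s
    obtain ⟨b, t, rfl⟩ : ∃ b t, s = Fin.cons b t := ⟨s 0, Fin.tail s, (Fin.cons_self_tail s).symm⟩
    rw [Fin.sum_univ_succ]
    have hw : ∀ j : Fin N, (wsign (Fin.cons b t) j.succ : R) = (if b = true then -1 else 1) * wsign t j := by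
      intro j
      rw [wsign, Fin.prod_univ_succ]
      simp [wsign]
    have hw0 : (wsign (Fin.cons b t : Fin (N + 1) → Bool) 0 : R) = 1 :=
      Finset.prod_eq_one fun i _ => if_neg fun h => absurd h.1 (Fin.not_lt_zero i)
    cases b
    · show p0 (d f z) t = _
      rw [p0_d, Pi.add_apply, Pi.smul_apply, ih, smul_eq_mul, add_comm]
      congr 1
      · simp [hw0, p1, LinearMap.funLeft_apply]
      · refine Finset.sum_congr rfl fun j _ => ?_
        simp only [Fin.cons_succ, hw, p0, LinearMap.funLeft_apply, Fin.cons_update, Fin.tail]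
        simp
    · show p1 (d f z) t = _
      rw [p1_d, Pi.neg_apply, ih]
      simp only [Fin.cons_zero, if_true, zero_add, ← Finset.sum_neg_distrib]
      refine Finset.sum_congr rfl fun j _ => ?_
      simp only [Fin.cons_succ, hw, p1, LinearMap.funLeft_apply, Fin.cons_update, Fin.tail]
      split_ifs <;> ring

/-- the subset of a Wiebe index -/
def supp (s : Fin N → Bool) : Finset (Fin N) := Finset.univ.filter fun i => s i = false

/-- the Wiebe index of a subset -/
def idx (T : Finset (Fin N)) : Fin N → Bool := fun i => decide (i ∉ T)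

theorem supp_idx (T : Finset (Fin N)) : supp (idx T) = T := by ext i; simp [supp, idx]

theorem idx_supp (s : Fin N → Bool) : idx (supp s) = s := by
  funext i; cases h : s i <;> simp [supp, idx, h]

/-- the twist sign -/
def eps' (T : Finset (Fin N)) : R := ∏ i ∈ T, (-1) ^ (i : ℕ)

theorem eps'_mul_self (T : Finset (Fin N)) : (eps' T : R) * eps' T = 1 := by
  rw [eps', ← Finset.prod_mul_distrib]
  exact Finset.prod_eq_one fun i _ => by rw [← mul_pow]; simp

/-- the twisted translation into the Wiebe model -/
def tw (z : Finset (Fin N) → R) : X R N := fun s => eps' (supp s) * z (supp s)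

theorem d_tw (f : Fin N → R) (z : Finset (Fin N) → R) : d f (tw z) = tw (dK f z) := by
  funext s
  obtain ⟨T, rfl⟩ : ∃ T, s = idx T := ⟨supp s, (idx_supp s).symm⟩
  rw [d_apply, tw, supp_idx, dK, Finset.mul_sum]
  refine (Finset.sum_subset_zero_on_sdiff (Finset.subset_univ T) ?_ fun j hj => ?_).symm
  · intro j hj
    have : j ∉ T := (Finset.mem_sdiff.1 hj).2
    simp [idx, this]
  · have hu : Function.update (idx T) j true = idx (T.erase j) := by
      funext i
      rcases eq_or_ne i j with rfl | hij
      · simp [idx]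
      · simp [idx, hij]
    rw [if_neg (by simp [idx, hj]), hu, tw, supp_idx]
    have hsign : (wsign (idx T) j : R) * ksign T j = (-1) ^ (j : ℕ) := by
      rw [wsign, ksign, ← Finset.prod_ite_mem_eq T, ← Finset.prod_mul_distrib]
      have e : ∀ i : Fin N, (if i < j ∧ idx T i = true then (-1 : R) else 1) *
          (if i ∈ T then (if i < j then -1 else 1) else 1) = if i < j then -1 else 1 := fun i => by
        by_cases hi : i ∈ T <;> simp [idx, hi]
      rw [Finset.prod_congr rfl fun i _ => e i, Finset.prod_ite, Finset.prod_const, Finset.prod_const,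
        one_pow, mul_one]
      congr 1
      rw [show (Finset.univ.filter fun i => i < j) = Finset.Iio j by ext i; simp, Fin.card_Iio]
    have he : (eps' T : R) = (-1) ^ (j : ℕ) * eps' (T.erase j) := (Finset.mul_prod_erase T _ hj).symm
    rw [he, ← hsign]
    linear_combination ((wsign (idx T) j : R) * f j * z (T.erase j) * eps' (T.erase j)) * ksign_mul_self (R := R) T j

theorem tw_injective : Function.Injective (tw : (Finset (Fin N) → R) → X R N) := by
  intro z z' h
  funext T
  have h1 := congrArg (eps' T * ·) (congrFun h (idx T))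
  simpa [tw, supp_idx, ← mul_assoc, eps'_mul_self] using h1

theorem dK_dK (f : Fin N → R) (z : Finset (Fin N) → R) (T : Finset (Fin N)) : dK f (dK f z) T = 0 := by
  have h : tw (dK f (dK f z)) = tw (0 : Finset (Fin N) → R) := by
    rw [← d_tw, ← d_tw, Wiebe.d_d]
    funext s; simp [tw]
  exact congrFun (tw_injective h) T

/-- cocycles below the top degree are coboundaries -/
theorem exists_primitive {f : Fin N → R} (hf : Acyclic f) {p : ℕ} (hp : p < N) {z : Finset (Fin N) → R}
    (hz : ∀ T, T.card = p + 1 → dK f z T = 0) : ∃ h, ∀ T, T.card = p → dK f h T = z T := by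
  let z' : Finset (Fin N) → R := fun T => if T.card = p then z T else 0
  have h0 : dK f z' = 0 := by
    funext T
    show dK f z' T = 0
    by_cases hT : T.card = p + 1
    · rw [← hz T hT]
      refine dK_congr f fun j hj => if_pos ?_
      rw [Finset.card_erase_of_mem hj, hT, Nat.add_sub_cancel]
    · refine Finset.sum_eq_zero fun j hj => ?_
      rw [show z' (T.erase j) = 0 from if_neg fun h => hT ?_, mul_zero]
      rw [← Finset.card_erase_add_one hj, h]
  have he : eps (tw z') = 0 := by
    rw [eps_apply, tw]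
    have : supp (fun _ : Fin N => false) = Finset.univ := by ext; simp [supp]
    rw [this, show z' Finset.univ = 0 from if_neg (by simp; omega), mul_zero]
  obtain ⟨v, -, hv⟩ := hf.exists_primitive (z := tw z') (by rw [d_tw, h0]; funext s; simp [tw])
    (by rw [he]; exact zero_mem _)
  refine ⟨fun S => eps' S * v (idx S), fun T hT => ?_⟩
  have hv' : tw (fun S => eps' S * v (idx S)) = v := funext fun s => by
    simp [tw, ← mul_assoc, eps'_mul_self, idx_supp]
  have h := congrFun (tw_injective ((d_tw f _).symm.trans (hv'.symm ▸ hv : d f (tw fun S => eps' S * v (idx S)) = tw z'))) T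
  rw [h]
  exact if_pos hT

section Filtered

open MvPolynomial

variable {a : Fin N → R}

/-- `eval` of forms with coefficients in the ideal -/
theorem eval_mem_pow_succ {l : ℕ} {P : MvPolynomial (Fin N) R} (hP : P.IsHomogeneous l)
    (hc : MvPolynomial.map (Ideal.Quotient.mk (Ideal.span (Set.range a))) P = 0) :
    eval a P ∈ Ideal.span (Set.range a) ^ (l + 1) := by
  classical
  rw [eval_eq]
  refine Ideal.sum_mem _ fun e he => ?_
  rw [pow_succ']
  refine Ideal.mul_mem_mul ((RegIdeal.coeff_mem_iff_map_eq_zero _ P).2 hc e) ?_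
  have h : ∀ i ∈ e.support, a i ^ e i ∈ Ideal.span (Set.range a) ^ e i := fun i _ =>
    Ideal.pow_mem_pow (Ideal.subset_span (Set.mem_range_self i)) _
  have := Ideal.prod_mem_prod h
  rw [Finset.prod_pow_eq_pow_sum] at this
  rwa [hP.degree_eq_sum_deg_support he]

theorem exists_homogeneousComponent_X_pow_mul (j : Fin N) (k l : ℕ) (p : MvPolynomial (Fin N) R) :
    homogeneousComponent l (X j ^ k * p) = X j ^ k * if k ≤ l then homogeneousComponent (l - k) p else 0 := by
  induction p using MvPolynomial.induction_on' with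
  | monomial e c =>
    have h1 : (X j ^ k * monomial e c : MvPolynomial (Fin N) R).IsHomogeneous (k + e.degree) :=
      (show (X j ^ k : MvPolynomial (Fin N) R).IsHomogeneous k by simpa using (isHomogeneous_X R j).pow k).mul
        (isHomogeneous_monomial _ rfl)
    rw [homogeneousComponent_of_mem h1]
    by_cases hkl : k ≤ l
    · rw [if_pos hkl, homogeneousComponent_of_mem (isHomogeneous_monomial _ rfl)]
      by_cases h : l = k + e.degree
      · rw [if_pos h, if_pos (by omega)]
      · rw [if_neg h, if_neg (by omega), mul_zero]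
    · rw [if_neg hkl, if_neg (by omega), mul_zero]
  | add p q hp hq =>
    rw [mul_add, map_add, hp, hq, ← mul_add]
    split_ifs <;> simp

/-- one step of raising the filtration degree -/
theorem exists_next {k l p : ℕ} (ha : Acyclic a) (hp : p < N) {h : Finset (Fin N) → R}
    (hh : ∀ S, S.card = p → h S ∈ Ideal.span (Set.range a) ^ l)
    (hd : ∀ T, T.card = p + 1 → dK (fun j => a j ^ k) h T ∈ Ideal.span (Set.range a) ^ (l + k + 1)) :
    ∃ h', (∀ S, S.card = p → h' S ∈ Ideal.span (Set.range a) ^ (l + 1)) ∧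
      ∀ T, dK (fun j => a j ^ k) h' T = dK (fun j => a j ^ k) h T := by
  let I := Ideal.span (Set.range a)
  let π : MvPolynomial (Fin N) R →+* MvPolynomial (Fin N) (R ⧸ I) := MvPolynomial.map (Ideal.Quotient.mk I)
  have hG : ∀ S, ∃ G : MvPolynomial (Fin N) R, G.IsHomogeneous l ∧ (S.card = p → eval a G = h S) := by
    intro S
    by_cases hS : S.card = p
    · obtain ⟨G, hG, hG'⟩ := RegLoc.exists_homogeneous_eval a l (hh S hS)
      exact ⟨G, hG, fun _ => hG'⟩
    · exact ⟨0, isHomogeneous_zero _ _ _, fun h => absurd h hS⟩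
  choose G hGh hGe using hG
  let Xk : ∀ (A : Type u) [CommRing A], Fin N → MvPolynomial (Fin N) A := fun A _ j => X j ^ k
  have hev : (eval a) ∘ Xk R = fun j => a j ^ k := funext fun j => by simp [Xk]
  have hπX : π ∘ Xk R = Xk (R ⧸ I) := funext fun j => by simp [π, Xk]
  have hP : ∀ T, T.card = p + 1 → π (dK (Xk R) G T) = 0 := by
    intro T hT
    refine (RegIdeal.coeff_mem_iff_map_eq_zero _ _).1
      (isQuasiRegular_of_h1 (isH1Regular_of_acyclic ha) (l + k) _ ?_ ?_)
    · refine IsHomogeneous.sum _ _ _ fun j _ => ?_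
      have h1 : (ksign T j : MvPolynomial (Fin N) R) = C (ksign T j) := (map_ksign C T j).symm
      rw [h1, mul_assoc, add_comm l k]
      refine IsHomogeneous.C_mul ?_ _
      exact (show (X j ^ k : MvPolynomial (Fin N) R).IsHomogeneous k by simpa using (isHomogeneous_X R j).pow k).mul
        (hGh _)
    · rw [map_dK, hev]
      rw [dK_congr (z' := h) _ fun j hj => hGe _ (by rw [Finset.card_erase_of_mem hj, hT, Nat.add_sub_cancel])]
      exact hd T hT
  obtain ⟨g, hg⟩ := exists_primitive (acyclic_pow (acyclic_X (R ⧸ I) N) k) hp (z := π ∘ G) (fun T hT => by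
    have := hP T hT
    rwa [map_dK, hπX] at this)
  choose g' hg' using fun S => MvPolynomial.map_surjective (σ := Fin N) (Ideal.Quotient.mk I) Ideal.Quotient.mk_surjective (g S)
  let g'' : Finset (Fin N) → MvPolynomial (Fin N) R := fun S => if k ≤ l then homogeneousComponent (l - k) (g' S) else 0
  refine ⟨h - dK (fun j => a j ^ k) (eval a ∘ g''), fun S hS => ?_, fun T => ?_⟩
  · have hcomp : homogeneousComponent l (dK (Xk R) g' S) = dK (Xk R) g'' S := by
      simp only [dK, map_sum]
      refine Finset.sum_congr rfl fun j _ => ?_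
      rw [← map_ksign C S j, mul_assoc, homogeneousComponent_C_mul, exists_homogeneousComponent_X_pow_mul,
        ← mul_assoc]
    let D := homogeneousComponent l (G S - dK (Xk R) g' S)
    have hD : π D = 0 := by
      refine (RegIdeal.coeff_mem_iff_map_eq_zero _ _).1 fun e => ?_
      rw [coeff_homogeneousComponent]
      split_ifs
      · refine (RegIdeal.coeff_mem_iff_map_eq_zero _ _).2 ?_ e
        rw [map_sub, map_dK, show π ∘ g' = g from funext hg', hπX, hg S hS]
        exact sub_self _
      · exact zero_mem _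
    have hDe : eval a D = (h - dK (fun j => a j ^ k) (eval a ∘ g'')) S := by
      simp only [D, map_sub, hcomp, map_dK, hev, Pi.sub_apply]
      rw [homogeneousComponent_of_mem (hGh S), if_pos rfl, hGe S hS]
    rw [← hDe]
    exact eval_mem_pow_succ (homogeneousComponent_isHomogeneous l _) hD
  · rw [dK_sub, dK_dK, sub_zero]

theorem exists_mul_pow_of_mem_pow {k M : ℕ} (hN : 0 < N) (hM : k = 0 ∨ N * (k - 1) + 1 ≤ M) {x : R}
    (hx : x ∈ Ideal.span (Set.range a) ^ M) :
    ∃ y : Fin N → R, (∀ j, y j ∈ Ideal.span (Set.range a) ^ (M - k)) ∧ ∑ j, a j ^ k * y j = x := by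
  classical
  obtain ⟨P, hP, rfl⟩ := RegLoc.exists_homogeneous_eval a M hx
  rw [eval_eq]
  let V : Submodule R R := ⨆ j, Ideal.span {a j ^ k} * Ideal.span (Set.range a) ^ (M - k)
  have hmem : ∑ e ∈ P.support, P.coeff e * ∏ i ∈ e.support, a i ^ e i ∈ V := by
    refine Submodule.sum_mem _ fun e he => Ideal.mul_mem_left _ _ ?_
    have hdeg : M = ∑ i, e i := by
      rw [hP.degree_eq_sum_deg_support he]
      exact Finset.sum_subset (Finset.subset_univ _) fun i _ hi => by simpa using hi
    obtain ⟨j, hj⟩ : ∃ j, k ≤ e j := by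
      rcases hM with rfl | hM
      · exact ⟨⟨0, hN⟩, Nat.zero_le _⟩
      by_contra hcon
      push Not at hcon
      have : ∑ i, e i ≤ N * (k - 1) := by
        refine (Finset.sum_le_card_nsmul Finset.univ _ (k - 1) fun i _ => ?_).trans (by simp)
        have := hcon i; omega
      omega
    refine Submodule.mem_iSup_of_mem j ?_
    have hprod : ∏ i ∈ e.support, a i ^ e i = a j ^ k * ∏ i, a i ^ (e - Finsupp.single j k) i := by
      have h2 : ∏ i, a i ^ (Finsupp.single j k) i = a j ^ k := by
        rw [Finset.prod_eq_single j (fun i _ hi => by simp [Finsupp.single_eq_of_ne hi]) (by simp)]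
        simp
      rw [← h2, ← Finset.prod_mul_distrib,
        Finset.prod_subset (Finset.subset_univ e.support) fun i _ hi => by simp at hi; simp [hi]]
      refine Finset.prod_congr rfl fun i _ => ?_
      rw [← pow_add, Finsupp.tsub_apply]
      congr 1
      rcases eq_or_ne i j with rfl | hi
      · simp only [Finsupp.single_eq_same]; omega
      · simp [Finsupp.single_eq_of_ne hi]
    rw [hprod]
    refine Ideal.mul_mem_mul (Ideal.mem_span_singleton_self _) ?_
    have hsum : ∑ i, (e - Finsupp.single j k) i = M - k := by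
      have h3 : ∑ i, ((e - Finsupp.single j k) i + Finsupp.single j k i) = ∑ i, e i :=
        Finset.sum_congr rfl fun i _ => by
          rw [Finsupp.tsub_apply]
          rcases eq_or_ne i j with rfl | hi
          · simp only [Finsupp.single_eq_same]; omega
          · simp [Finsupp.single_eq_of_ne hi]
      rw [Finset.sum_add_distrib, ← hdeg, Finset.sum_eq_single j (f := fun i => Finsupp.single j k i)
        (fun i _ hi => Finsupp.single_eq_of_ne hi) (by simp), Finsupp.single_eq_same] at h3
      omega
    rw [← hsum, ← Finset.prod_pow_eq_pow_sum]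
    exact Ideal.prod_mem_prod fun i _ => Ideal.pow_mem_pow (Ideal.subset_span (Set.mem_range_self i)) _
  refine Submodule.iSup_induction _ (motive := fun x => ∃ y : Fin N → R,
    (∀ j, y j ∈ Ideal.span (Set.range a) ^ (M - k)) ∧ ∑ j, a j ^ k * y j = x) hmem (fun j x hx => ?_)
    ⟨0, fun j => zero_mem _, by simp⟩ ?_
  · obtain ⟨z, hz, rfl⟩ := Ideal.mem_span_singleton_mul.1 hx
    refine ⟨Pi.single j z, fun i => ?_, ?_⟩
    · rcases eq_or_ne i j with rfl | hi <;> simp [*]
    · rw [Finset.sum_eq_single j (fun i _ hi => by simp [hi]) (by simp), Pi.single_eq_same]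
  · rintro x y ⟨u, hu, rfl⟩ ⟨v, hv, rfl⟩
    exact ⟨u + v, fun j => add_mem (hu j) (hv j), by simp [mul_add, Finset.sum_add_distrib]⟩

/-- Exactness of the Koszul cochains of the powers, filtered by the powers of the ideal. -/
theorem exists_primitive_mem {k : ℕ} {m : ℤ} (ha : Acyclic a) (hN : 0 < N) (hm : 1 - (N : ℤ) ≤ m) {p : ℕ}
    {z : Finset (Fin N) → R}
    (hz : ∀ T, T.card = p → z T ∈ Ideal.span (Set.range a) ^ (m + k * p).toNat)
    (hd : ∀ T, T.card = p + 1 → dK (fun j => a j ^ k) z T = 0) :
    ∃ h, (∀ S, S.card + 1 = p → h S ∈ Ideal.span (Set.range a) ^ (m + k * ((p : ℤ) - 1)).toNat) ∧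
      ∀ T, T.card = p → dK (fun j => a j ^ k) h T = z T := by
  rcases lt_or_ge p N with hp | hp
  · obtain ⟨h, hh⟩ := exists_primitive (acyclic_pow ha k) hp hd
    rcases Nat.eq_zero_or_pos p with rfl | hp0
    · exact ⟨h, fun S hS => by omega, hh⟩
    obtain ⟨q, rfl⟩ := Nat.exists_eq_succ_of_ne_zero hp0.ne'
    have key : ∀ l : ℕ, l ≤ (m + k * q).toNat → ∃ h', (∀ S, S.card = q → h' S ∈ Ideal.span (Set.range a) ^ l) ∧
        ∀ T, T.card = q + 1 → dK (fun j => a j ^ k) h' T = z T := by
      intro l hl
      induction l with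
      | zero => exact ⟨h, fun S _ => by simp, hh⟩
      | succ l ih =>
        obtain ⟨h', h1, h2⟩ := ih (by omega)
        have hle : l + k + 1 ≤ (m + k * ((q + 1 : ℕ) : ℤ)).toNat := by
          push_cast
          have : (k : ℤ) * ((q : ℤ) + 1) = k * q + k := by ring
          omega
        obtain ⟨h'', h3, h4⟩ := exists_next ha (by omega : q < N) h1
          (fun T hT => by rw [h2 T hT]; exact Ideal.pow_le_pow_right hle (hz T hT))
        exact ⟨h'', h3, fun T hT => (h4 T).trans (h2 T hT)⟩
    obtain ⟨h', h1, h2⟩ := key _ le_rfl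
    refine ⟨h', fun S hS => ?_, h2⟩
    rw [show ((q.succ : ℕ) : ℤ) - 1 = q by simp]
    exact h1 S (by omega)
  rcases Nat.lt_or_ge N p with hNp | hNp
  · refine ⟨0, fun S _ => zero_mem _, fun T hT => ?_⟩
    exact absurd hT (by have := T.card_le_univ; simp at this; omega)
  obtain rfl : N = p := le_antisymm hp hNp
  have huniv : ∀ T : Finset (Fin N), T.card = N → T = Finset.univ := fun T hT =>
    Finset.eq_univ_of_card T (by simpa using hT)
  have hM : k = 0 ∨ N * (k - 1) + 1 ≤ (m + k * N).toNat := by
    rcases Nat.eq_zero_or_pos k with rfl | hk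
    · exact Or.inl rfl
    · obtain ⟨k', rfl⟩ : ∃ k', k = k' + 1 := ⟨k - 1, by omega⟩
      right
      have e : ((k' + 1 : ℕ) : ℤ) * N = ((N * k' : ℕ) : ℤ) + N := by push_cast; ring
      rw [e]
      simp only [Nat.add_sub_cancel]
      omega
  obtain ⟨y, hy, hys⟩ := exists_mul_pow_of_mem_pow hN hM (hz Finset.univ (by simp))
  refine ⟨fun S => ∑ j ∈ Sᶜ, ksign Finset.univ j * y j, fun S hS => Ideal.sum_mem _ fun j _ => ?_, fun T hT => ?_⟩
  · refine Ideal.mul_mem_left _ _ (Ideal.pow_le_pow_right ?_ (hy j))
    have e : (k : ℤ) * ((N : ℤ) - 1) = k * N - k := by ring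
    omega
  · obtain rfl := huniv T hT
    rw [← hys, dK]
    refine Finset.sum_congr rfl fun j _ => ?_
    have hc : (Finset.univ.erase j)ᶜ = {j} := by ext i; simp
    simp only [hc, Finset.sum_singleton]
    linear_combination (a j ^ k * y j) * ksign_mul_self (R := R) Finset.univ j

end Filtered

end Groth.Agent.BlowCech
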