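import Groth.Agent.SiteCoh.DirectImage

/-!
Local killing of classes in short exact sequences of sheaves.
-/

set_option autoImplicit false

universe u

open CategoryTheory Category Limits Opposite Abelian

namespace Groth.Agent.BlowCech

open Groth.Agent.SiteCoh

variable {C D : Type u} [SmallCategory C] [SmallCategory D] {J : GrothendieckTopology C}
  {K : GrothendieckTopology D} (u : D ⥤ C) [u.IsContinuous K J]

/-- the third term inherits local killing from the outer neighbours -/
theorem locKilled_X₃ {S : ShortComplex (Sheaf J AddCommGrpCat.{u})} (hS : S.ShortExact) {q : ℕ}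
    (h₂ : LocKilled K u S.X₂ q) (h₁ : LocKilled K u S.X₁ (q + 1)) : LocKilled K u S.X₃ q := by
  intro V ξ
  obtain ⟨T, hT, hk⟩ := h₁ V (ξ.comp hS.extClass rfl)
  have hex : ∀ ⦃W : D⦄ (g : W ⟶ V), T.arrows g → ∃ T' : Sieve W, T' ∈ K W ∧ ∀ ⦃W' : D⦄ (g' : W' ⟶ W),
      T'.arrows g' → (Ext.mk₀ (CohCx.freeSheafMap J (u.map g'))).comp
        ((Ext.mk₀ (CohCx.freeSheafMap J (u.map g))).comp ξ (zero_add q)) (zero_add q) = 0 := by
    intro W g hg
    obtain ⟨η, hη⟩ := Ext.covariant_sequence_exact₃ _ hS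
      ((Ext.mk₀ (CohCx.freeSheafMap J (u.map g))).comp ξ (zero_add q)) rfl (by
        rw [Ext.comp_assoc _ _ _ (zero_add q) rfl (by omega)]
        exact hk g hg)
    obtain ⟨T', hT', hk'⟩ := h₂ W η
    refine ⟨T', hT', fun W' g' hg' => ?_⟩
    rw [← hη, ← Ext.comp_assoc _ _ _ (zero_add q) (add_zero q) (by omega), hk' g' hg', Ext.zero_comp]
  choose T' hT' hk' using hex
  refine ⟨Sieve.bind T.arrows T', K.bind_covering hT fun {W} g hg => hT' g hg, ?_⟩
  rintro W' h ⟨W, g', g, hg, hg', rfl⟩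
  have he : CohCx.freeSheafMap J (u.map (g' ≫ g)) =
      CohCx.freeSheafMap J (u.map g') ≫ CohCx.freeSheafMap J (u.map g) := by
    simp only [CohCx.freeSheafMap, Functor.map_comp, Functor.whiskerRight_comp]
  rw [he, ← Ext.mk₀_comp_mk₀, Ext.comp_assoc _ _ _ (zero_add 0) (zero_add _) (by omega)]
  exact hk' g hg g' hg'

end Groth.Agent.BlowCech
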