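import Groth.Agent.BlowCech.InvExcPush
import Groth.Agent.BlowCech.LocKilled
import Groth.Agent.KFlat.ClosedImm
import Groth.Agent.CohFinite.Serre
import Groth.Agent.RatBlow.Sections
import Groth.Agent.CurveRR.Cartier
import Mathlib

/-!
# Higher direct images of twists of the exceptional divisor
-/

set_option autoImplicit false
set_option linter.style.haveILetI false
set_option backward.isDefEq.respectTransparency false
set_option backward.isDefEq.respectTransparency.types false
universe u

open CategoryTheory CategoryTheory.Limits AlgebraicGeometry TopologicalSpace Opposite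

noncomputable section

namespace Groth.Agent.BlowCech

open Groth.Agent.SiteCoh

variable {X X' : Scheme.{u}} {f : X' ⟶ X}

/-- the restriction to a closed subscheme of an invertible module is acyclic as soon as the outer terms are -/
theorem isZero_rpush_restrict (I : X'.IdealSheafData) {M : X'.Modules} (hM : PicF.IsInvertible M) (q : ℕ)
    (h₂ : IsZero ((Coh.RpushAb f q).obj (Coh.toAb M)))
    (h₁ : IsZero ((Coh.RpushAb f (q + 1)).obj (Coh.toAb (CohB1.tensorMod (ClSub.idealMod I) M)))) :
    IsZero ((Coh.RpushAb f q).obj (Coh.toAb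
      ((Scheme.Modules.pushforward I.subschemeι).obj ((Scheme.Modules.pullback I.subschemeι).obj M)))) := by
  have hS := CohFinite.shortExact_tmap hM (CurveRR.ideal_shortExact I)
  have h₂' : IsZero ((Coh.RpushAb f q).obj (Coh.toAb (CohB1.tensorMod (Coh.structureModule X') M))) :=
    h₂.of_iso ((Coh.RpushAb f q).mapIso ((CohQC.toAbF X').mapIso (TMul.leftUnitIso M)))
  have h₃ : IsZero ((Coh.RpushAb f q).obj (Coh.toAb (CohB1.tensorMod (ClSub.quotMod I) M))) :=
    isZero_rpush_of_locKilled (K := _) (u := Opens.map f.base)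
      (locKilled_X₃ (Opens.map f.base) (CohQC.seq_shortExact hS)
        (locKilled_of_isZero _ h₂') (locKilled_of_isZero _ h₁))
  exact h₃.of_iso ((Coh.RpushAb f q).mapIso ((CohQC.toAbF X').mapIso
    ((KFlat.projFormulaIso I.subschemeι (Coh.structureModule _) M) ≪≫
      (Scheme.Modules.pushforward I.subschemeι).mapIso (TMul.leftUnitIso _)).symm))

theorem invertible_and_mul {I : X'.IdealSheafData} (hI : BlowUp.IsEffCartierIdeal I) : ∀ n : ℕ,
    PicF.IsInvertible (ClSub.idealMod (I ^ n)) ∧
      Nonempty (CohB1.tensorMod (ClSub.idealMod I) (ClSub.idealMod (I ^ n)) ≅ ClSub.idealMod (I ^ (n + 1)))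
  | 0 => by
    obtain ⟨e⟩ := RatBlow.nonempty_idealMod_top (X := X')
    rw [show I ^ 0 = (⊤ : X'.IdealSheafData) from pow_zero _, show I ^ (0 + 1) = I from pow_one _]
    refine ⟨(Groth.Agent.S8914.result _).2 ?_, ⟨?_⟩⟩
    · intro x
      obtain ⟨W, hW, hxW, -⟩ := exists_isAffineOpen_mem_and_subset (X := X') (x := x) (U := ⊤) trivial
      exact ⟨⟨W, hW⟩, hxW, 1, one_mem _, by simp [Scheme.IdealSheafData.ideal_top]⟩
    · exact PicGrp.tensorModIso (Iso.refl _) e ≪≫ TMul.commIso _ _ ≪≫ TMul.leftUnitIso _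
  | n + 1 => by
    obtain ⟨h1, -⟩ := LefDiv.idealMod_pow hI n
    refine ⟨(Groth.Agent.S8914.result _).2 h1, ⟨?_⟩⟩
    rw [show I ^ (n + 1 + 1) = I ^ (n + 1) * I from pow_succ I (n + 1)]
    exact TMul.commIso _ _ ≪≫ (Nakai.nonempty_idealMod_mul h1 hI).some

end Groth.Agent.BlowCech
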