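import Groth.Agent.CechAlt.Vanish

/-!
Čech exactness may be checked on increasing tuples.
-/

set_option autoImplicit false
set_option backward.isDefEq.respectTransparency false

universe u

open CategoryTheory CategoryTheory.Limits TopologicalSpace Opposite

namespace Groth.Agent.BlowCech

open Groth.Agent.SiteCoh Groth.Agent.CechAlt

variable {X : TopCat.{u}} {ι : Type u} (U : ι → Opens X) (P : (Opens X)ᵒᵖ ⥤ AddCommGrpCat.{u})

theorem cd_add {n : ℕ} (x y : Cochain U P n) : cd U P (x + y) = cd U P x + cd U P y := by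
  funext a
  simp only [cd_sum, Pi.add_apply, map_add, smul_add, Finset.sum_add_distrib]

theorem ev_alt_congr [Fintype ι] [DecidableEq ι] [LinearOrder ι] {n : ℕ} (W : Opens X) {x y : Cochain U P n}
    (h : ∀ b, StrictMono b → x b = y b) (a : Fin (n + 1) → ι) :
    ev U P W x (alt (n + 1) (Finsupp.single a 1)) = ev U P W y (alt (n + 1) (Finsupp.single a 1)) := by
  rw [alt_single, map_sum, map_sum]
  refine Finset.sum_congr rfl fun b hb => ?_
  rw [map_zsmul, map_zsmul, ev, lc_single, ev, lc_single, h b (Finset.mem_filter.1 hb).2]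

theorem cechExact_of_sorted [Fintype ι] [LinearOrder ι] (n : ℕ)
    (h : ∀ x : Cochain U P (n + 1), cd U P x = 0 → ∃ y : Cochain U P n, ∀ a, StrictMono a → cd U P y a = x a) :
    CechExact U P n := by
  intro x hx
  obtain ⟨y₁, hy₁⟩ := h x hx
  let y₀ : Cochain U P n := fun b => ev U P (tupleProd U b) x (hty (n + 1) (Finsupp.single b 1))
  let y₂ : Cochain U P n := fun b => ev U P (tupleProd U b) y₁ (alt (n + 1) (Finsupp.single b 1))
  refine ⟨y₀ + y₂, funext fun a => ?_⟩
  have key0 : cd U P y₀ a = ev U P (tupleProd U a) x (hty (n + 1) (bd (n + 1) (Finsupp.single a 1))) := by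
    rw [cd_sum, bd_single, map_sum, map_sum]
    refine Finset.sum_congr rfl fun k _ => ?_
    rw [map_zsmul, map_zsmul, map_ev U P (tupleDrop U a k) x (hty_single_mem (n + 1) (a ∘ k.succAbove))]
  have key2 : cd U P y₂ a = ev U P (tupleProd U a) x (alt (n + 2) (Finsupp.single a 1)) := by
    have e : cd U P y₂ a = ev U P (tupleProd U a) y₁ (alt (n + 1) (bd (n + 1) (Finsupp.single a 1))) := by
      rw [cd_sum, bd_single, map_sum, map_sum]
      refine Finset.sum_congr rfl fun k _ => ?_
      rw [map_zsmul, map_zsmul, map_ev U P (tupleDrop U a k) y₁ (alt_single_mem (a ∘ k.succAbove))]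
    rw [e, ← alt_bd, ev_bd U P y₁ (alt_single_mem a)]
    exact ev_alt_congr U P _ hy₁ a
  have h2 := congrArg (ev U P (tupleProd U a) x) (hty_spec (n + 1) (Finsupp.single a 1))
  rw [map_add, ev_bd U P x (hty_single_mem (n + 2) a), hx, ev_zero, zero_add, map_sub, ev_single U P x (𝟙 _)] at h2
  rw [cd_add, Pi.add_apply, key0, key2, h2, op_id, CategoryTheory.Functor.map_id, sub_add_cancel]
  rfl

end Groth.Agent.BlowCech
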