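import Groth.Agent.BlowCech.Chart
import Groth.Agent.BlowCech.KoszPow
import Mathlib

/-!
# Functions on intersections of the charts; coboundaries from the filtered Koszul complexes
-/

set_option autoImplicit false
set_option linter.style.haveILetI false
set_option backward.isDefEq.respectTransparency false
universe u

open CategoryTheory AlgebraicGeometry TopologicalSpace

namespace Groth.Agent.BlowCech

open Wiebe (Acyclic)

variable {X X' : Scheme.{u}} {f : X' ⟶ X} {U : X.affineOpens} {N : ℕ} {a : Fin N → Γ(X, U.1)}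

namespace Charts

variable (C : Charts f U a)

/-- the intersection of some of the charts -/
noncomputable def DS (S : Finset (Fin N)) : X'.Opens := S.inf C.D ⊓ f ⁻¹ᵁ U.1

theorem DS_le_U (S : Finset (Fin N)) : C.DS S ≤ f ⁻¹ᵁ U.1 := inf_le_right

theorem DS_le {S : Finset (Fin N)} {i : Fin N} (hi : i ∈ S) : C.DS S ≤ C.D i := inf_le_left.trans (Finset.inf_le hi)

theorem DS_anti {S T : Finset (Fin N)} (h : S ⊆ T) : C.DS T ≤ C.DS S := inf_le_inf_right _ (Finset.inf_mono h)

theorem DS_empty : C.DS ∅ = f ⁻¹ᵁ U.1 := by simp [DS]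

/-- functions of the base -/
noncomputable abbrev rS (S : Finset (Fin N)) : Γ(X, U.1) →+* Γ(X', C.DS S) := rho f (C.DS S) (C.DS_le_U S)

/-- restriction -/
noncomputable abbrev res {S T : Finset (Fin N)} (h : S ⊆ T) : Γ(X', C.DS S) →+* Γ(X', C.DS T) :=
  (X'.presheaf.map (homOfLE (C.DS_anti h)).op).hom

theorem res_rS {S T : Finset (Fin N)} (h : S ⊆ T) (c : Γ(X, U.1)) : C.res h (C.rS S c) = C.rS T c :=
  rho_res f _ _ _ c

/-- the ideal on an intersection -/
noncomputable abbrev IS (S : Finset (Fin N)) : Ideal Γ(X', C.DS S) := (Ideal.span (Set.range a)).map (C.rS S)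

theorem IS_res {S T : Finset (Fin N)} (h : S ⊆ T) : (C.IS S).map (C.res h) = C.IS T := by
  rw [Ideal.map_map]
  exact congrArg (fun φ : Γ(X, U.1) →+* Γ(X', C.DS T) => (Ideal.span (Set.range a)).map φ) (RingHom.ext (C.res_rS h))

theorem IS_eq {S : Finset (Fin N)} {i : Fin N} (hi : i ∈ S) : C.IS S = Ideal.span {C.rS S (a i)} := by
  let ρ : Γ(X', C.D i) →+* Γ(X', C.DS S) := (X'.presheaf.map (homOfLE (C.DS_le hi)).op).hom
  have e : ρ.comp (rho f (C.D i) (C.le i)) = C.rS S := RingHom.ext fun c => rho_res f _ _ _ c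
  rw [IS, ← e, ← Ideal.map_map, C.gen i, Ideal.map_span, Set.image_singleton]
  rfl

theorem nzd_DS {S : Finset (Fin N)} {i : Fin N} (hi : i ∈ S) : C.rS S (a i) ∈ nonZeroDivisors Γ(X', C.DS S) :=
  C.nzd i _ _ (C.IS_eq hi)

theorem nzd_prod (S : Finset (Fin N)) {T : Finset (Fin N)} (h : T ⊆ S) (k : ℕ) :
    C.rS S ((∏ j ∈ T, a j) ^ k) ∈ nonZeroDivisors Γ(X', C.DS S) := by
  rw [map_pow, map_prod]
  exact pow_mem (prod_mem fun j hj => C.nzd_DS (h hj)) k

theorem span_prod {S : Finset (Fin N)} (hS : S.Nonempty) :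
    Ideal.span {C.rS S (∏ j ∈ S, a j)} = C.IS S ^ S.card := by
  rw [map_prod, ← Ideal.prod_span_singleton, ← Finset.prod_const]
  exact Finset.prod_congr rfl fun j hj => (C.IS_eq hj).symm

theorem exists_basic {i : Fin N} {S : Finset (Fin N)} (hi : i ∈ S) :
    ∃ W : Γ(X', C.D i), C.DS S = X'.basicOpen W ∧
      rho f (C.D i) (C.le i) (∏ j ∈ S, a j) = W * rho f (C.D i) (C.le i) (a i) ^ S.card := by
  have hex : ∀ j, ∃ w : Γ(X', C.D i), w * rho f (C.D i) (C.le i) (a i) = rho f (C.D i) (C.le i) (a j) := fun j =>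
    Ideal.mem_span_singleton'.1 (C.gen i ▸ Ideal.mem_map_of_mem _ (Ideal.subset_span (s := Set.range a) ⟨j, rfl⟩))
  choose w hw using hex
  refine ⟨∏ j ∈ S, w j, ?_, ?_⟩
  · have hwj : ∀ j, C.D i ⊓ C.D j = X'.basicOpen (w j) := by
      intro j
      refine le_antisymm ?_ (le_inf (X'.basicOpen_le _) (C.le_of_gen j _ ((X'.basicOpen_le _).trans (C.le i)) ?_))
      · let O := C.D i ⊓ C.D j
        have hO : O ≤ f ⁻¹ᵁ U.1 := inf_le_left.trans (C.le i)
        let ρi : Γ(X', C.D i) →+* Γ(X', O) := (X'.presheaf.map (homOfLE inf_le_left).op).hom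
        let ρj : Γ(X', C.D j) →+* Γ(X', O) := (X'.presheaf.map (homOfLE inf_le_right).op).hom
        have ei : ∀ c, ρi (rho f (C.D i) (C.le i) c) = rho f O hO c := fun c => rho_res f _ _ _ c
        have ej : ∀ c, ρj (rho f (C.D j) (C.le j) c) = rho f O hO c := fun c => rho_res f _ _ _ c
        have hgi : (Ideal.span (Set.range a)).map (rho f O hO) = Ideal.span {rho f O hO (a i)} := by
          rw [← RingHom.ext (g := rho f O hO) (f := ρi.comp _) ei, ← Ideal.map_map, C.gen i, Ideal.map_span,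
            Set.image_singleton]
          rfl
        obtain ⟨t, ht⟩ := Ideal.mem_span_singleton'.1
          (C.gen j ▸ Ideal.mem_map_of_mem (rho f (C.D j) (C.le j)) (Ideal.subset_span (s := Set.range a) ⟨i, rfl⟩))
        have h1 : ρi (w j) * ρj t = 1 := by
          refine (mul_cancel_right_mem_nonZeroDivisors (C.nzd i O hO hgi)).1 ?_
          have e1 := congrArg ρi (hw j)
          have e2 := congrArg ρj ht
          rw [map_mul, ei, ei] at e1
          rw [map_mul, ej, ej] at e2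
          rw [one_mul]
          linear_combination ρj t * e1 + e2
        intro z hz
        have hu : z ∈ X'.basicOpen (ρi (w j)) := by
          rw [X'.basicOpen_of_isUnit (IsUnit.of_mul_eq_one _ h1)]; exact hz
        rw [X'.basicOpen_res] at hu
        exact hu.2
      · let O := X'.basicOpen (w j)
        let ρ : Γ(X', C.D i) →+* Γ(X', O) := (X'.presheaf.map (homOfLE (X'.basicOpen_le (w j))).op).hom
        have hO : O ≤ f ⁻¹ᵁ U.1 := (X'.basicOpen_le (w j)).trans (C.le i)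
        have e : ∀ c, ρ (rho f (C.D i) (C.le i) c) = rho f O hO c := fun c => rho_res f _ _ _ c
        rw [← RingHom.ext (g := rho f O ((X'.basicOpen_le _).trans (C.le i))) (f := ρ.comp _) e, ← Ideal.map_map,
          C.gen i, Ideal.map_span, Set.image_singleton]
        rw [RingHom.comp_apply, ← hw j, map_mul]
        exact (Ideal.span_singleton_mul_left_unit
          (show IsUnit (ρ (w j)) from X'.toRingedSpace.isUnit_res_basicOpen (w j)) _).symm
    have key : ∀ T : Finset (Fin N), C.D i ⊓ T.inf C.D = X'.basicOpen (∏ j ∈ T, w j) := by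
      intro T
      induction T using Finset.induction with
      | empty => simp [X'.basicOpen_of_isUnit isUnit_one]
      | insert j T hj ih =>
        rw [Finset.prod_insert hj, Scheme.basicOpen_mul, ← hwj, ← ih, Finset.inf_insert, inf_inf_distrib_left]
    rw [← key S]
    refine le_antisymm (le_inf (C.DS_le hi) inf_le_left) (le_inf inf_le_right (inf_le_left.trans (C.le i)))
  · rw [map_prod, ← Finset.prod_const, ← Finset.prod_mul_distrib]
    exact Finset.prod_congr rfl fun j _ => (hw j).symm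

theorem affine_DS {S : Finset (Fin N)} (hS : S.Nonempty) : IsAffineOpen (C.DS S) := by
  obtain ⟨i, hi⟩ := hS
  obtain ⟨W, hW, -⟩ := C.exists_basic hi
  rw [hW]
  exact (C.affine i).basicOpen W

/-- functions on an intersection have a denominator -/
theorem exists_num {S : Finset (Fin N)} (hS : S.Nonempty) (v : Γ(X', C.DS S)) :
    ∃ k₀ : ℕ, ∀ k, k₀ ≤ k → ∃ c ∈ Ideal.span (Set.range a) ^ (k * S.card),
      v * C.rS S ((∏ j ∈ S, a j) ^ k) = C.rS S c := by
  obtain ⟨i, hi⟩ := hS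
  obtain ⟨W, hW, hWa⟩ := C.exists_basic hi
  let ρ : Γ(X', C.D i) →+* Γ(X', C.DS S) := (X'.presheaf.map (homOfLE (C.DS_le hi)).op).hom
  have eρ : ∀ c, ρ (rho f (C.D i) (C.le i) c) = C.rS S c := fun c => rho_res f _ _ _ c
  letI : Algebra Γ(X', C.D i) Γ(X', C.DS S) := ρ.toAlgebra
  haveI : IsLocalization.Away W Γ(X', C.DS S) := by
    exact (C.affine i).isLocalization_of_eq_basicOpen W (homOfLE (C.DS_le hi)) hW
  obtain ⟨e, v1, hv1⟩ := IsLocalization.Away.surj W v
  obtain ⟨d, c1, hc1, hv1'⟩ := C.form i v1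
  refine ⟨e + d, fun k hk => ?_⟩
  obtain ⟨l, rfl⟩ : ∃ l, k = e + d + l := ⟨k - (e + d), by omega⟩
  let P := ∏ j ∈ S, a j
  let P' := ∏ j ∈ S.erase i, a j
  have hP : P = a i * P' := (Finset.mul_prod_erase S a hi).symm
  refine ⟨c1 * a i ^ (e * S.card) * P' ^ d * P ^ l, ?_, ?_⟩
  · have hPm : P ∈ Ideal.span (Set.range a) ^ S.card := by
      rw [← Finset.prod_const]
      exact Ideal.prod_mem_prod fun j _ => Ideal.subset_span (s := Set.range a) ⟨j, rfl⟩
    have hP'm : P' ∈ Ideal.span (Set.range a) ^ (S.card - 1) := by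
      rw [← Finset.card_erase_of_mem hi, ← Finset.prod_const]
      exact Ideal.prod_mem_prod fun j _ => Ideal.subset_span (s := Set.range a) ⟨j, rfl⟩
    obtain ⟨t, ht⟩ : ∃ t, S.card = t + 1 := ⟨S.card - 1, by have := Finset.card_pos.2 ⟨i, hi⟩; omega⟩
    have := Ideal.mul_mem_mul (Ideal.mul_mem_mul (Ideal.mul_mem_mul hc1
      (Ideal.pow_mem_pow (Ideal.subset_span (Set.mem_range_self (f := a) i)) (e * S.card))) (Ideal.pow_mem_pow hP'm d))
      (Ideal.pow_mem_pow hPm l)
    rw [← pow_mul, ← pow_mul, ← pow_add, ← pow_add, ← pow_add] at this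
    convert this using 2
    rw [ht, Nat.add_sub_cancel]; ring
  · have hv : v * ρ W ^ e = ρ v1 := hv1
    have hPW : C.rS S P = ρ W * C.rS S (a i) ^ S.card := by
      rw [← eρ, hWa, map_mul, map_pow, eρ]
    have h1 := congrArg ρ hv1'
    rw [map_mul, map_pow, eρ, eρ] at h1
    simp only [map_mul, map_pow]
    rw [pow_add, pow_add]
    conv_lhs => rw [show C.rS S P ^ d = (C.rS S (a i) * C.rS S P') ^ d by rw [hP, map_mul]]
    conv_lhs => rw [show C.rS S P ^ e = (ρ W * C.rS S (a i) ^ S.card) ^ e by rw [hPW]]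
    rw [pow_mul']
    linear_combination (C.rS S (a i) ^ S.card) ^ e * (C.rS S (a i) * C.rS S P') ^ d * C.rS S P ^ l * hv +
      (C.rS S (a i) ^ S.card) ^ e * C.rS S P' ^ d * C.rS S P ^ l * h1

/-- functions of the base vanishing on an intersection -/
theorem exists_kill {S : Finset (Fin N)} (hS : S.Nonempty) {c : Γ(X, U.1)} (h : C.rS S c = 0) :
    ∃ r : ℕ, (∏ j ∈ S, a j) ^ r * c = 0 := by
  obtain ⟨i, hi⟩ := hS
  obtain ⟨W, hW, hWa⟩ := C.exists_basic hi
  let ρ : Γ(X', C.D i) →+* Γ(X', C.DS S) := (X'.presheaf.map (homOfLE (C.DS_le hi)).op).hom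
  have eρ : ∀ c, ρ (rho f (C.D i) (C.le i) c) = C.rS S c := fun c => rho_res f _ _ _ c
  letI : Algebra Γ(X', C.D i) Γ(X', C.DS S) := ρ.toAlgebra
  haveI : IsLocalization.Away W Γ(X', C.DS S) := by
    exact (C.affine i).isLocalization_of_eq_basicOpen W (homOfLE (C.DS_le hi)) hW
  obtain ⟨⟨_, e, rfl⟩, he⟩ := (IsLocalization.map_eq_zero_iff (Submonoid.powers W) Γ(X', C.DS S) _).1
    ((eρ c).trans h)
  have h1 : rho f (C.D i) (C.le i) ((∏ j ∈ S, a j) ^ e * c) = 0 := by
    rw [map_mul, map_pow, hWa, mul_pow]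
    linear_combination (rho f (C.D i) (C.le i) (a i) ^ S.card) ^ e * he
  obtain ⟨r, hr⟩ := C.ker i _ h1
  refine ⟨r + e, ?_⟩
  rw [← Finset.mul_prod_erase S a hi] at hr ⊢
  rw [pow_add, mul_pow]
  linear_combination (∏ j ∈ S.erase i, a j) ^ r * hr

/-- the twisted coboundary on intersections of charts -/
noncomputable def dS (δ : ℕ) (v : ∀ T : Finset (Fin N), Γ(X', C.DS T)) (T : Finset (Fin N)) : Γ(X', C.DS T) :=
  ∑ j ∈ T, C.rS T (ksign T j * a j ^ δ) * C.res (Finset.erase_subset j T) (v (T.erase j))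

theorem mul_dS {δ k : ℕ} (v : ∀ T : Finset (Fin N), Γ(X', C.DS T)) (c : Finset (Fin N) → Γ(X, U.1))
    {T : Finset (Fin N)} (h : ∀ j ∈ T, v (T.erase j) * C.rS _ ((∏ i ∈ T.erase j, a i) ^ k) = C.rS _ (c (T.erase j))) :
    C.dS δ v T * C.rS T ((∏ i ∈ T, a i) ^ k) = C.rS T (dK (fun j => a j ^ (k + δ)) c T) := by
  rw [dS, dK, map_sum, Finset.sum_mul]
  refine Finset.sum_congr rfl fun j hj => ?_
  have h1 := congrArg (C.res (Finset.erase_subset j T)) (h j hj)
  rw [map_mul, C.res_rS, C.res_rS] at h1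
  rw [← Finset.mul_prod_erase T a hj]
  simp only [map_mul, map_pow, mul_pow, pow_add] at h1 ⊢
  linear_combination C.rS T (ksign T j) * C.rS T (a j) ^ δ * C.rS T (a j) ^ k * h1

/-- cocycles on the intersections of `p` charts come from the Koszul complex -/
theorem exists_koszul (ha : Acyclic a) {m : ℤ} {δ : ℕ} (hN : 0 < N) (hm : 1 - (N : ℤ) ≤ m) (hmδ : 0 ≤ m + δ)
    {p : ℕ} (hp : 0 < p) (v : ∀ T : Finset (Fin N), Γ(X', C.DS T))
    (hv : ∀ T, T.card = p → v T ∈ C.IS T ^ (m + δ * p).toNat)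
    (hd : ∀ T, T.card = p + 1 → C.dS δ v T = 0) :
    ∃ (k : ℕ) (h : Finset (Fin N) → Γ(X, U.1)),
      (∀ S, S.card + 1 = p → h S ∈ Ideal.span (Set.range a) ^ (m + ((k + δ : ℕ) : ℤ) * ((p : ℤ) - 1)).toNat) ∧
      ∀ T, T.card = p → C.rS T (dK (fun j => a j ^ (k + δ)) h T) = v T * C.rS T ((∏ j ∈ T, a j) ^ k) := by
  classical
  let l := (m + δ * p).toNat
  have hlm : (l : ℤ) = m + δ * p := Int.toNat_of_nonneg (by
    have : (δ : ℤ) * 1 ≤ δ * p := mul_le_mul_of_nonneg_left (by exact_mod_cast hp) (by positivity)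
    omega)
  have hcard : ∀ T : Finset (Fin N), T.card = p → T.Nonempty := fun T hT => Finset.card_pos.1 (hT ▸ hp)
  have hnum : ∀ T : Finset (Fin N), ∃ k₀, T.card = p → ∀ k, k₀ ≤ k → ∃ c ∈ Ideal.span (Set.range a) ^ (l + k * p),
      v T * C.rS T ((∏ j ∈ T, a j) ^ k) = C.rS T c := by
    intro T
    by_cases hT : T.card = p
    · obtain ⟨i, hi⟩ := hcard T hT
      have hvT := hv T hT
      rw [C.IS_eq hi, Ideal.span_singleton_pow, Ideal.mem_span_singleton'] at hvT
      obtain ⟨v', hv'⟩ := hvT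
      obtain ⟨k₀, hk₀⟩ := C.exists_num ⟨i, hi⟩ v'
      refine ⟨k₀, fun _ k hk => ?_⟩
      obtain ⟨c, hc, hce⟩ := hk₀ k hk
      refine ⟨a i ^ l * c, ?_, ?_⟩
      · rw [pow_add, ← hT]
        exact Ideal.mul_mem_mul (Ideal.pow_mem_pow (Ideal.subset_span (s := Set.range a) ⟨i, rfl⟩) l) hc
      · rw [← hv', map_mul, map_pow (C.rS T) (a i), ← hce]
        ring
    · exact ⟨0, fun h => absurd h hT⟩
  choose k₀ hk₀ using hnum
  let k := Finset.univ.sup k₀
  have hc : ∀ T : Finset (Fin N), ∃ c, T.card = p → c ∈ Ideal.span (Set.range a) ^ (l + k * p) ∧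
      v T * C.rS T ((∏ j ∈ T, a j) ^ k) = C.rS T c := fun T => by
    by_cases hT : T.card = p
    · obtain ⟨c, h1, h2⟩ := hk₀ T hT k (Finset.le_sup (Finset.mem_univ T))
      exact ⟨c, fun _ => ⟨h1, h2⟩⟩
    · exact ⟨0, fun h => absurd h hT⟩
  choose c hc using hc
  have her : ∀ {T : Finset (Fin N)}, T.card = p + 1 → ∀ j ∈ T, (T.erase j).card = p := fun hT j hj => by
    rw [Finset.card_erase_of_mem hj, hT, Nat.add_sub_cancel]
  have hkill : ∀ T : Finset (Fin N), ∃ r, T.card = p + 1 →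
      (∏ j ∈ T, a j) ^ r * dK (fun j => a j ^ (k + δ)) c T = 0 := fun T => by
    by_cases hT : T.card = p + 1
    · obtain ⟨r, hr⟩ := C.exists_kill (S := T) (Finset.card_pos.1 (by omega)) (c := dK (fun j => a j ^ (k + δ)) c T) (by
        rw [← C.mul_dS v c fun j hj => (hc _ (her hT j hj)).2, hd T hT, zero_mul])
      exact ⟨r, fun _ => hr⟩
    · exact ⟨0, fun h => absurd h hT⟩
  choose r hr using hkill
  let R := Finset.univ.sup r
  let c' : Finset (Fin N) → Γ(X, U.1) := fun T => (∏ j ∈ T, a j) ^ R * c T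
  have hc' : ∀ T, T.card = p + 1 → dK (fun j => a j ^ (k + R + δ)) c' T = 0 := by
    intro T hT
    have e : dK (fun j => a j ^ (k + R + δ)) c' T = (∏ j ∈ T, a j) ^ R * dK (fun j => a j ^ (k + δ)) c T := by
      rw [dK, dK, Finset.mul_sum]
      refine Finset.sum_congr rfl fun j hj => ?_
      simp only [c', ← Finset.mul_prod_erase T a hj, mul_pow, pow_add]
      ring
    obtain ⟨s, hs⟩ := Nat.exists_eq_add_of_le (Finset.le_sup (f := r) (Finset.mem_univ T))
    rw [e, show R = r T + s from hs, pow_add, mul_comm ((∏ j ∈ T, a j) ^ r T), mul_assoc, hr T hT, mul_zero]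
  obtain ⟨h, hh, he⟩ := exists_primitive_mem (k := k + R + δ) ha hN hm (z := c') (p := p) (fun T hT => by
    have hmem := Ideal.mul_mem_mul (Ideal.pow_mem_pow (show (∏ j ∈ T, a j) ∈ Ideal.span (Set.range a) ^ p by
      rw [← hT, ← Finset.prod_const]
      exact Ideal.prod_mem_prod fun j _ => Ideal.subset_span (s := Set.range a) ⟨j, rfl⟩) R) (hc T hT).1
    rw [← pow_mul, ← pow_add] at hmem
    refine Ideal.pow_le_pow_right (le_of_eq ?_) hmem
    have : (m + ((k + R + δ : ℕ) : ℤ) * p) = ((p * R + (l + k * p) : ℕ) : ℤ) := by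
      push_cast; rw [hlm]; ring
    rw [this, Int.toNat_natCast]) hc'
  refine ⟨k + R, h, hh, fun T hT => ?_⟩
  rw [he T hT, map_mul, ← (hc T hT).2, map_pow, map_pow, map_pow, pow_add]
  ring

/-- cocycles on at least two charts are coboundaries -/
theorem exists_coboundary (ha : Acyclic a) {m : ℤ} {δ : ℕ} (hN : 0 < N) (hm : 1 - (N : ℤ) ≤ m) (hmδ : 0 ≤ m + δ)
    {q : ℕ} (v : ∀ T : Finset (Fin N), Γ(X', C.DS T))
    (hv : ∀ T, T.card = q + 2 → v T ∈ C.IS T ^ (m + δ * (q + 2 : ℕ)).toNat)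
    (hd : ∀ T, T.card = q + 3 → C.dS δ v T = 0) :
    ∃ y : ∀ S : Finset (Fin N), Γ(X', C.DS S), (∀ S, S.card = q + 1 → y S ∈ C.IS S ^ (m + δ * (q + 1 : ℕ)).toNat) ∧
      ∀ T, T.card = q + 2 → C.dS δ y T = v T := by
  classical
  obtain ⟨k, h, hh, he⟩ := C.exists_koszul ha hN hm hmδ (p := q + 2) (by omega) v hv hd
  let l := (m + δ * (q + 1 : ℕ)).toNat
  have hl : (m + ((k + δ : ℕ) : ℤ) * (((q + 2 : ℕ) : ℤ) - 1)).toNat = l + (q + 1) * k := by
    have hlm : (l : ℤ) = m + δ * (q + 1 : ℕ) := Int.toNat_of_nonneg (by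
      have : (δ : ℤ) * 1 ≤ δ * (q + 1 : ℕ) := mul_le_mul_of_nonneg_left (by push_cast; omega) (by positivity)
      omega)
    have : m + ((k + δ : ℕ) : ℤ) * (((q + 2 : ℕ) : ℤ) - 1) = ((l + (q + 1) * k : ℕ) : ℤ) := by
      push_cast [hlm]; ring
    rw [this, Int.toNat_natCast]
  have hy : ∀ S : Finset (Fin N), ∃ y : Γ(X', C.DS S), S.card = q + 1 → y ∈ C.IS S ^ l ∧
      y * C.rS S ((∏ j ∈ S, a j) ^ k) = C.rS S (h S) := by
    intro S
    by_cases hS : S.card = q + 1
    · have h1 := Ideal.mem_map_of_mem (C.rS S) (hh S (by omega))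
      rw [hl, Ideal.map_pow, pow_add, pow_mul, ← hS, ← C.span_prod (Finset.card_pos.1 (by omega)),
        Ideal.span_singleton_pow, Ideal.mul_comm, Ideal.mem_span_singleton_mul] at h1
      obtain ⟨y, hy, hye⟩ := h1
      exact ⟨y, fun _ => ⟨hy, by rw [map_pow, ← hye, mul_comm]⟩⟩
    · exact ⟨0, fun h => absurd h hS⟩
  choose y hy using hy
  refine ⟨y, fun S hS => (hy S hS).1, fun T hT => ?_⟩
  refine (mul_cancel_right_mem_nonZeroDivisors (C.nzd_prod T (Finset.Subset.refl _) k)).1 ?_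
  rw [C.mul_dS y h fun j hj => (hy _ (by rw [Finset.card_erase_of_mem hj, hT]; omega)).2, he T hT]

/-- compatible functions on the charts come from the base -/
theorem exists_section (ha : Acyclic a) {m : ℕ} (hN : 0 < N) (v : ∀ T : Finset (Fin N), Γ(X', C.DS T))
    (hv : ∀ T, T.card = 1 → v T ∈ C.IS T ^ m) (hd : ∀ T, T.card = 2 → C.dS 0 v T = 0) :
    ∃ c ∈ Ideal.span (Set.range a) ^ m, ∀ T, T.card = 1 → C.rS T c = v T := by
  obtain ⟨k, h, hh, he⟩ := C.exists_koszul ha (m := (m : ℤ)) (δ := 0) hN (by omega) (by omega) (p := 1)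
    Nat.one_pos v (fun T hT => by simpa using hv T hT) hd
  refine ⟨h ∅, by simpa using hh ∅ rfl, fun T hT => ?_⟩
  obtain ⟨j, rfl⟩ := Finset.card_eq_one.1 hT
  refine (mul_cancel_right_mem_nonZeroDivisors (C.nzd_prod {j} (Finset.Subset.refl _) k)).1 ?_
  rw [← he {j} hT, ← map_mul]
  refine congrArg (C.rS {j}) ?_
  simp [dK, ksign, mul_comm]

/-- a function of the base vanishing on all charts is zero -/
theorem eq_zero_of_rS (ha : Acyclic a) (hN : 0 < N) {c : Γ(X, U.1)} (h : ∀ i, C.rS {i} c = 0) : c = 0 := by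
  classical
  choose r hr using fun i => C.exists_kill (Finset.singleton_nonempty i) (h i)
  obtain ⟨w, -, hw⟩ := exists_primitive_mem (k := Finset.univ.sup r) (m := 0) ha hN (by omega) (p := 0)
    (z := fun _ => c) (fun T _ => by simp) (fun T hT => by
      obtain ⟨j, rfl⟩ := Finset.card_eq_one.1 hT
      obtain ⟨s, hs⟩ := Nat.exists_eq_add_of_le (Finset.le_sup (f := r) (Finset.mem_univ j))
      have := hr j
      simp only [Finset.prod_singleton] at this
      simp only [dK, ksign, Finset.sum_singleton, Finset.prod_singleton, lt_irrefl, if_false, one_mul]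
      rw [hs, pow_add]
      linear_combination a j ^ s * this)
  simpa [dK] using (hw ∅ rfl).symm

end Charts

end Groth.Agent.BlowCech
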