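import Groth.Agent.BlowCech.LocFree
import Groth.Agent.BlowCech.LocKilled
import Groth.Agent.PnReg.KPush
import Groth.Agent.CohFinite.Serre
import Mathlib

/-!
# The unit and higher direct images for modules with two-term locally free resolutions
-/

set_option autoImplicit false
set_option linter.style.haveILetI false
set_option backward.isDefEq.respectTransparency false
set_option backward.isDefEq.respectTransparency.types false
universe u

open CategoryTheory CategoryTheory.Limits AlgebraicGeometry TopologicalSpace Opposite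

noncomputable section

namespace Groth.Agent.BlowCech

open Groth.Agent.SiteCoh

variable {X X' : Scheme.{u}} {f : X' ⟶ X}

theorem exists_of_app_eq_zero {S : ShortComplex X.Modules} (hS : S.ShortExact) (W : X.Opens) (s : Γ(S.X₂, W))
    (hs : S.g.app W s = 0) : ∃ t, S.f.app W t = s := by
  obtain ⟨a, ha⟩ := (QC.mem_range_kernel_app S.g W s).2 hs
  haveI := hS.mono_f
  refine ⟨(hS.exact.lift (kernel.ι S.g) (kernel.condition S.g)).app W a, ?_⟩
  show (hS.exact.lift (kernel.ι S.g) (kernel.condition S.g) ≫ S.f).app W a = s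
  rw [hS.exact.lift_f, ha]

theorem surjective_app_of_hu {S : ShortComplex X.Modules} (hS : S.ShortExact) (V : X.Opens)
    (h : Subsingleton (CohSite.HU (Coh.toAb S.X₁) 1 V)) : Function.Surjective (S.g.app V) := by
  obtain ⟨a⟩ := CohQC.hu_restrict S.X₁ V 1
  haveI := (Scheme.Modules.restrictFunctor V.ι).preservesHomologyOfExact
  have hs := PnReg.surjective_app_top (S := S.map (Scheme.Modules.restrictFunctor V.ι)) (hS.map_of_exact _)
    (a.symm.toEquiv.subsingleton)
  have hs' : Function.Surjective (S.g.app (V.ι ''ᵁ ⊤)) := hs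
  rwa [V.ι_image_top] at hs'

variable {J : X.IdealSheafData} (hJ : LocData J) (hb : BlowUp.IsBlowUp f J) {T : ShortComplex X.Modules}
  (hT : T.ShortExact) (h₁ : FlatMod.IsFinLocFree T.X₁) (h₀ : FlatMod.IsFinLocFree T.X₂)
  (hpull : (T.map (Scheme.Modules.pullback f)).ShortExact)
include hJ hb hT h₁ h₀ hpull

theorem isIso_unit_ses : IsIso ((Scheme.Modules.pullbackPushforwardAdjunction f).unit.app T.X₃) := by
  let η := (Scheme.Modules.pullbackPushforwardAdjunction f).unit
  haveI := isIso_unit_locFree hJ hb h₁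
  haveI := isIso_unit_locFree hJ hb h₀
  have hbij : ∀ (E : X.Modules) [IsIso (η.app E)] (W : X.Opens), Function.Bijective ((η.app E).app W) :=
    fun E _ W => ConcreteCategory.bijective_of_isIso ((η.app E).app W)
  refine QDescent.isIso_of_bijective_basis _ (GoodOpens J T.X₁) (fun {V} x hx => goodOpens_basis J hJ T.X₁ h₁ x hx) ?_
  rintro W ⟨hWa, N, a, r, e, hN, ha, hI, he⟩
  obtain ⟨C⟩ := exists_charts J hb ⟨W, hWa⟩ a hI
  haveI hq₁ : T.X₁.IsQuasicoherent := LocFree.isQCoh_of_isFinLocFree h₁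
  haveI : ((Scheme.Modules.pullback f).obj T.X₁).IsQuasicoherent := QC.isQCoh_pullback f hq₁
  have hdown : Function.Surjective (T.g.app W) :=
    surjective_app_of_hu hT W (CohQC.hu_vanish_of_isAffineOpen T.X₁ hWa 0)
  have hup : Function.Surjective (((Scheme.Modules.pullback f).map T.g).app (f ⁻¹ᵁ W)) :=
    surjective_app_of_hu hpull (f ⁻¹ᵁ W) (subsingleton_hu_frame C _ _ (he.pullback f) ha hN 0)
  have nat₁ : ∀ s, (η.app T.X₂).app W (T.f.app W s) =
      ((Scheme.Modules.pullback f).map T.f).app (f ⁻¹ᵁ W) ((η.app T.X₁).app W s) := fun s =>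
    congrArg (fun φ : T.X₁ ⟶ _ => φ.app W s) (η.naturality T.f)
  have nat₂ : ∀ s, (η.app T.X₃).app W (T.g.app W s) =
      ((Scheme.Modules.pullback f).map T.g).app (f ⁻¹ᵁ W) ((η.app T.X₂).app W s) := fun s =>
    congrArg (fun φ : T.X₂ ⟶ _ => φ.app W s) (η.naturality T.g)
  refine ⟨(injective_iff_map_eq_zero _).2 fun z hz => ?_, fun z => ?_⟩
  · obtain ⟨s, rfl⟩ := hdown z
    rw [nat₂] at hz
    obtain ⟨t, ht⟩ := exists_of_app_eq_zero hpull (f ⁻¹ᵁ W) _ hz
    obtain ⟨r, rfl⟩ := (hbij T.X₁ W).2 t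
    have hs : T.f.app W r = s := (hbij T.X₂ W).1 ((nat₁ r).trans ht)
    rw [← hs]
    show (T.f ≫ T.g).app W r = 0
    rw [T.zero]
    rfl
  · obtain ⟨s', rfl⟩ := hup z
    obtain ⟨s, rfl⟩ := (hbij T.X₂ W).2 s'
    exact ⟨T.g.app W s, nat₂ s⟩

omit hT in
theorem isZero_rpush_ses (q : ℕ) (hq : 1 ≤ q) :
    IsZero ((Coh.RpushAb f q).obj (Coh.toAb ((Scheme.Modules.pullback f).obj T.X₃))) := by
  refine isZero_rpush_of_locKilled (K := _) (u := Opens.map f.base)
    (locKilled_X₃ (Opens.map f.base) (CohQC.seq_shortExact hpull)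
      (locKilled_of_isZero _ (isZero_rpush_pullback hJ hb h₀ q hq))
      (locKilled_of_isZero _ (isZero_rpush_pullback hJ hb h₁ (q + 1) (by omega))))

end Groth.Agent.BlowCech
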