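import Groth.Agent.BlowCech.Sys
import Groth.Agent.BlowCech.Sorted
import Groth.Agent.CohQC.Relative
import Mathlib

/-!
# Vanishing of cohomology over an affine open of the base, by the Čech complex of the charts
-/

set_option autoImplicit false
set_option linter.style.haveILetI false
set_option backward.isDefEq.respectTransparency false
set_option backward.isDefEq.respectTransparency.types false
universe u

open CategoryTheory CategoryTheory.Limits AlgebraicGeometry TopologicalSpace Opposite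

noncomputable section

namespace Groth.Agent.BlowCech

open Groth.Agent.SiteCoh
open Wiebe (Acyclic)

variable {X X' : Scheme.{u}} {f : X' ⟶ X} {U : X.affineOpens} {N : ℕ} {a : Fin N → Γ(X, U.1)}

namespace Charts

/-- A presheaf whose sections on the intersections of charts are twisted functions in a power of the ideal. -/
structure Twist (C : Charts f U a) (P : (TopologicalSpace.Opens X'.toTopCat)ᵒᵖ ⥤ AddCommGrpCat.{u}) (m : ℤ)
    (δ : ℕ) where
  Φ : ∀ S : Finset (Fin N), P.obj (op (C.DS S)) →+ Γ(X', C.DS S)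
  inj : ∀ S : Finset (Fin N), S.Nonempty → Function.Injective (Φ S)
  range : ∀ S : Finset (Fin N), S.Nonempty → ∀ v, v ∈ Set.range (Φ S) ↔ v ∈ C.IS S ^ (m + δ * S.card).toNat
  map : ∀ (S T : Finset (Fin N)) (h : S ⊆ T), S.Nonempty → ∀ s : P.obj (op (C.DS S)),
    Φ T (P.map (homOfLE (C.DS_anti h)).op s) = C.res h (Φ S s) * C.rS T ((∏ j ∈ T \ S, a j) ^ δ)

variable (C : Charts f U a) {P : (TopologicalSpace.Opens X'.toTopCat)ᵒᵖ ⥤ AddCommGrpCat.{u}} {m : ℤ} {δ : ℕ}

/-- the charts, indexed in the right universe -/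
abbrev Y : ULift.{u} (Fin N) → TopologicalSpace.Opens X'.toTopCat := fun i => C.D i.down

/-- the vertices of a tuple -/
def img {n : ℕ} (b : Fin (n + 1) → ULift.{u} (Fin N)) : Finset (Fin N) := Finset.univ.image fun k => (b k).down

theorem img_nonempty {n : ℕ} (b : Fin (n + 1) → ULift.{u} (Fin N)) : (img b).Nonempty :=
  ⟨(b 0).down, Finset.mem_image_of_mem _ (Finset.mem_univ 0)⟩

theorem DS_le_tuple {n : ℕ} (b : Fin (n + 1) → ULift.{u} (Fin N)) {S : Finset (Fin N)}
    (h : ∀ k, (b k).down ∈ S) : C.DS S ≤ tupleProd C.Y b := by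
  rw [tupleProd_eq_iInf]
  exact le_iInf fun k => C.DS_le (h k)

theorem tuple_eq_DS {n : ℕ} (b : Fin (n + 1) → ULift.{u} (Fin N)) : tupleProd C.Y b = C.DS (img b) := by
  refine le_antisymm ?_ (C.DS_le_tuple b fun k => Finset.mem_image_of_mem _ (Finset.mem_univ k))
  rw [tupleProd_eq_iInf]
  refine le_inf (Finset.le_inf fun i hi => ?_) ((iInf_le _ 0).trans (C.le _))
  obtain ⟨k, -, rfl⟩ := Finset.mem_image.1 hi
  exact iInf_le (fun k => C.Y (b k)) k

/-- the increasing tuple of a finite set -/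
def tup {n : ℕ} (S : Finset (Fin N)) (h : S.card = n + 1) : Fin (n + 1) → ULift.{u} (Fin N) :=
  fun k => ⟨S.orderEmbOfFin h k⟩

theorem tup_le {n : ℕ} (S : Finset (Fin N)) (h : S.card = n + 1) : C.DS S ≤ tupleProd C.Y (tup S h) :=
  C.DS_le_tuple _ fun k => S.orderEmbOfFin_mem h k

variable {C} (tw : C.Twist P m δ)

/-- the functions of a cochain -/
def val {n : ℕ} (x : Cochain C.Y P n) (S : Finset (Fin N)) : Γ(X', C.DS S) :=
  if h : S.card = n + 1 then tw.Φ S (P.map (homOfLE (C.tup_le S h)).op (x (tup S h))) else 0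

theorem pmap_eq {O O' : TopologicalSpace.Opens X'.toTopCat} (g h : op O ⟶ op O') (s : P.obj (op O)) :
    P.map g s = P.map h s := by rw [Subsingleton.elim g h]

theorem pmap_comp {O O' O'' : TopologicalSpace.Opens X'.toTopCat} (g : op O ⟶ op O') (h : op O' ⟶ op O'')
    (k : op O ⟶ op O'') (s : P.obj (op O)) : P.map h (P.map g s) = P.map k s := by
  rw [← Functor.map_comp_apply]
  exact pmap_eq _ _ s

theorem ksign_eq {T : Finset (Fin N)} {n : ℕ} (h : T.card = n) (k : Fin n) :
    (ksign T (T.orderEmbOfFin h k) : Γ(X, U.1)) = (-1) ^ (k : ℕ) := by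
  rw [ksign, Finset.prod_ite, Finset.prod_const_one, mul_one, Finset.prod_const]
  congr 1
  have : T.filter (fun i => i < T.orderEmbOfFin h k) =
      (Finset.Iio k).map (T.orderEmbOfFin h).toEmbedding := by
    ext i
    simp only [Finset.mem_filter, Finset.mem_map, Finset.mem_Iio, RelEmbedding.coe_toEmbedding]
    constructor
    · rintro ⟨hi, hlt⟩
      obtain ⟨l, rfl⟩ : i ∈ Set.range (T.orderEmbOfFin h) := by rw [Finset.range_orderEmbOfFin]; exact hi
      exact ⟨l, (T.orderEmbOfFin h).lt_iff_lt.1 hlt, rfl⟩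
    · rintro ⟨l, hl, rfl⟩
      exact ⟨T.orderEmbOfFin_mem h l, (T.orderEmbOfFin h).lt_iff_lt.2 hl⟩
  rw [this, Finset.card_map, Fin.card_Iio]

theorem val_cd {n : ℕ} (x : Cochain C.Y P n) {T : Finset (Fin N)} (hT : T.card = n + 2) :
    C.dS δ (val tw x) T = val tw (cd C.Y P x) T := by
  rw [val, dif_pos hT, cd_sum, map_sum, map_sum, dS]
  symm
  refine Finset.sum_bij (fun k _ => T.orderEmbOfFin hT k) (fun k _ => T.orderEmbOfFin_mem hT k)
    (fun _ _ _ _ h => (T.orderEmbOfFin hT).injective h) (fun b hb => ?_) (fun k _ => ?_)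
  · obtain ⟨l, hl⟩ : b ∈ Set.range (T.orderEmbOfFin hT) := by rw [Finset.range_orderEmbOfFin]; exact hb
    exact ⟨l, Finset.mem_univ l, hl⟩
  have hk := T.orderEmbOfFin_mem hT k
  have hcard : (T.erase (T.orderEmbOfFin hT k)).card = n + 1 := by
    rw [Finset.card_erase_of_mem hk, hT]
    rfl
  have hb : tup (T.erase (T.orderEmbOfFin hT k)) hcard = (tup T hT) ∘ k.succAbove := by
    have : T.orderEmbOfFin hT ∘ k.succAbove = (T.erase (T.orderEmbOfFin hT k)).orderEmbOfFin hcard :=
      Finset.orderEmbOfFin_unique hcard (fun l => Finset.mem_erase.2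
        ⟨fun e => Fin.succAbove_ne k l ((T.orderEmbOfFin hT).injective e), T.orderEmbOfFin_mem hT _⟩)
        ((T.orderEmbOfFin hT).strictMono.comp (Fin.strictMono_succAbove k))
    funext l
    exact congrArg ULift.up (congrFun this l).symm
  rw [map_zsmul, map_zsmul, zsmul_eq_mul, val, dif_pos hcard, map_mul, ksign_eq hT k]
  have e1 : ∀ (b : Fin (n + 1) → ULift.{u} (Fin N)) (_ : b = (tup T hT) ∘ k.succAbove)
      (h₁ : C.DS (T.erase (T.orderEmbOfFin hT k)) ≤ tupleProd C.Y b),
      P.map (homOfLE (C.tup_le T hT)).op (P.map (tupleDrop C.Y (tup T hT) k).op (x ((tup T hT) ∘ k.succAbove))) =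
        P.map (homOfLE (C.DS_anti (Finset.erase_subset (T.orderEmbOfFin hT k) T))).op
          (P.map (homOfLE h₁).op (x b)) := by
    rintro b rfl h₁
    rw [pmap_comp _ _ (homOfLE ((C.tup_le T hT).trans (leOfHom (tupleDrop C.Y (tup T hT) k)))).op,
      pmap_comp _ _ (homOfLE ((C.tup_le T hT).trans (leOfHom (tupleDrop C.Y (tup T hT) k)))).op]
  rw [e1 _ hb (C.tup_le _ hcard), tw.map _ _ (Finset.erase_subset _ T) (Finset.card_pos.1 (by omega))]
  rw [Finset.sdiff_erase_self hk, Finset.prod_singleton]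
  simp only [map_pow, map_neg, map_one]
  push_cast
  ring

theorem img_tup {n : ℕ} (S : Finset (Fin N)) (h : S.card = n + 1) : img (tup.{u} S h) = S :=
  Finset.image_orderEmbOfFin_univ S h

theorem tup_img {n : ℕ} {b : Fin (n + 1) → ULift.{u} (Fin N)} (hb : StrictMono b) :
    ∃ h : (img b).card = n + 1, tup (img b) h = b := by
  have hb' : StrictMono fun k => (b k).down := fun i j hij => hb hij
  have h : (img b).card = n + 1 := by
    rw [img, Finset.card_image_of_injective _ hb'.injective, Finset.card_univ, Fintype.card_fin]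
  refine ⟨h, funext fun k => ?_⟩
  exact congrArg ULift.up (congrFun
    (Finset.orderEmbOfFin_unique h (fun l => Finset.mem_image_of_mem _ (Finset.mem_univ l)) hb') k).symm

include tw in
theorem cechExact (ha : Acyclic a) (hN : 0 < N) (hm : 1 - (N : ℤ) ≤ m) (hmδ : 0 ≤ m + δ) (n : ℕ) :
    CechExact C.Y P n := by
  classical
  letI : LinearOrder (ULift.{u} (Fin N)) := LinearOrder.lift' ULift.down ULift.down_injective
  refine cechExact_of_sorted C.Y P n fun x hx => ?_
  obtain ⟨y, hy, hyd⟩ := C.exists_coboundary ha hN hm hmδ (q := n) (val tw x) (fun T hT => by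
    have := (tw.range T (Finset.card_pos.1 (by omega)) (val tw x T)).1 (by
      rw [val, dif_pos hT]; exact ⟨_, rfl⟩)
    rwa [hT] at this) (fun T hT => by
    rw [val_cd tw x hT, hx, val, dif_pos hT]
    simp)
  have hex : ∀ S : Finset (Fin N), ∃ s : P.obj (op (C.DS S)), S.card = n + 1 → tw.Φ S s = y S := fun S => by
    by_cases hS : S.card = n + 1
    · obtain ⟨s, hs⟩ := (tw.range S (Finset.card_pos.1 (by omega)) (y S)).2 (by rw [hS]; exact hy S hS)
      exact ⟨s, fun _ => hs⟩
    · exact ⟨0, fun h => absurd h hS⟩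
  choose s hs using hex
  let x' : Cochain C.Y P n := fun b => P.map (homOfLE (C.tuple_eq_DS b).le).op (s (img b))
  refine ⟨x', fun b hb => ?_⟩
  have hval : ∀ S : Finset (Fin N), S.card = n + 1 → val tw x' S = y S := by
    intro S hS
    rw [val, dif_pos hS, ← hs S hS]
    refine congrArg (tw.Φ S) ?_
    show P.map _ (P.map _ (s (img (tup S hS)))) = _
    have e : ∀ (S' : Finset (Fin N)) (_ : S' = S) (h₁ : tupleProd C.Y (tup S hS) ≤ C.DS S'),
        P.map (homOfLE (C.tup_le S hS)).op (P.map (homOfLE h₁).op (s S')) = s S := by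
      rintro S' rfl h₁
      rw [pmap_comp _ _ (𝟙 _), CategoryTheory.Functor.map_id]
      rfl
    exact e _ (img_tup S hS) _
  obtain ⟨hc, hbe⟩ := tup_img hb
  have h2 : val tw (cd C.Y P x') (img b) = val tw x (img b) := by
    rw [← val_cd tw x' hc, ← hyd _ hc]
    refine Finset.sum_congr rfl fun j hj => ?_
    rw [hval _ (by rw [Finset.card_erase_of_mem hj, hc]; rfl)]
  rw [val, val, dif_pos hc, dif_pos hc] at h2
  have h3 := tw.inj _ (img_nonempty b) h2
  have e : ∀ (b' : Fin (n + 1 + 1) → ULift.{u} (Fin N)) (_ : b' = b) (h₁ : C.DS (img b) ≤ tupleProd C.Y b'),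
      P.map (homOfLE h₁).op (cd C.Y P x' b') = P.map (homOfLE h₁).op (x b') →
      cd C.Y P x' b = x b := by
    rintro b' rfl h₁ h4
    have h5 := congrArg (P.map (homOfLE (C.tuple_eq_DS b').le).op) h4
    rw [pmap_comp _ _ (𝟙 _), pmap_comp _ _ (𝟙 _), CategoryTheory.Functor.map_id] at h5
    exact h5
  exact e _ hbe _ h3

theorem iSup_Y : (⨆ i, C.Y i) = f ⁻¹ᵁ U.1 :=
  le_antisymm (iSup_le fun i => C.le i.down)
    (C.cover.trans (iSup_le fun i => le_iSup C.Y ⟨i⟩))

/-- no higher cohomology over the preimage of the affine open -/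
theorem subsingleton_hu (M : X'.Modules) [M.IsQuasicoherent]
    (tw : C.Twist (res' (𝟭 X'.Opens) (Coh.toAb M)) m δ)
    (ha : Acyclic a) (hN : 0 < N) (hm : 1 - (N : ℤ) ≤ m) (hmδ : 0 ≤ m + δ) (q : ℕ) :
    Subsingleton (CohSite.HU (Coh.toAb M) (q + 1) (f ⁻¹ᵁ U.1)) := by
  obtain ⟨e⟩ := CohQC.cech_equiv_affine M C.Y (fun n b => by
    rw [← tupleProd_eq_iInf, C.tuple_eq_DS b]
    exact C.affine_DS (img_nonempty b)) (q + 1)
  rw [iSup_Y] at e
  have h := (isZero_cech_iff C.Y _ q).2 (cechExact tw ha hN hm hmδ q)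
  have := AddCommGrpCat.subsingleton_of_isZero h
  exact e.symm.toEquiv.subsingleton

end Charts

end Groth.Agent.BlowCech
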